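import Groth.Agent.ExcVan.Formal
import Groth.Agent.PointBlow.Main

/-!
# Global functions near a thickened fibre
-/

noncomputable section

set_option autoImplicit false
set_option linter.style.haveILetI false
set_option linter.unusedSectionVars false
set_option backward.isDefEq.respectTransparency false
set_option backward.isDefEq.respectTransparency.types false
set_option maxHeartbeats 1000000

universe u

open CategoryTheory CategoryTheory.Limits AlgebraicGeometry TopologicalSpace Opposite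
open Groth.Agent.PnCoh.Finite (mapLin deltaLin)

namespace Groth.Agent.H26.Castel

open Groth.Agent

variable {Z : Scheme.{u}}

/-- A power of an ideal sheaf lies in any ideal sheaf with smaller support. -/
theorem exists_pow_le [IsNoetherian Z] (K J : Z.IdealSheafData) (h : (J.support : Set Z) ⊆ (K.support : Set Z)) :
    ∃ n : ℕ, K ^ n ≤ J := by
  classical
  have hle : K ≤ J.radical := by
    rw [← Scheme.IdealSheafData.vanishingIdeal_support]
    exact Scheme.IdealSheafData.le_support_iff_le_vanishingIdeal.1 h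
  choose U hU hxU using fun x : Z => QCoh.exists_affine_mem x
  obtain ⟨t, ht⟩ := isCompact_univ.elim_finite_subcover (fun x : Z => (U x : Set Z))
    (fun x => (U x).2) (fun x _ => Set.mem_iUnion.2 ⟨x, hxU x⟩)
  have hm : ∀ x, ∃ m : ℕ, K.ideal ⟨U x, hU x⟩ ^ m ≤ J.ideal ⟨U x, hU x⟩ := fun x => by
    haveI := QCoh.noetherian_sections (X := Z) ⟨U x, hU x⟩
    exact Ideal.exists_pow_le_of_le_radical_of_fg (hle ⟨U x, hU x⟩) (IsNoetherian.noetherian _)
  choose m hm using hm
  refine ⟨t.sup m, Scheme.IdealSheafData.le_of_iSup_eq_top (fun x : t => (⟨U x.1, hU x.1⟩ : Z.affineOpens))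
    (eq_top_iff.2 fun p _ => ?_) fun x => ?_⟩
  · obtain ⟨x, hx, hp⟩ := Set.mem_iUnion₂.1 (ht (Set.mem_univ p))
    exact Opens.mem_iSup.2 ⟨⟨x, hx⟩, hp⟩
  · rw [Scheme.IdealSheafData.ideal_pow, Pi.pow_apply]
    exact (Ideal.pow_le_pow_right (Finset.le_sup (f := m) x.2)).trans (hm x.1)

/-- Functions vanishing on a closed subscheme multiply into the product. -/
theorem appTop_mul_eq_zero {I J : Z.IdealSheafData} {x y : Γ(Z, ⊤)} (hx : I.subschemeι.appTop x = 0)
    (hy : J.subschemeι.appTop y = 0) : (I * J).subschemeι.appTop (x * y) = 0 := by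
  obtain ⟨a, rfl⟩ := OmegaLib.exists_idealSect_eq I ⊤ x hx
  obtain ⟨b, rfl⟩ := OmegaLib.exists_idealSect_eq J ⊤ y hy
  refine TopCat.Presheaf.section_ext (I * J).subscheme.sheaf _ _ _ fun p hp => ?_
  rw [map_zero]
  obtain ⟨W, hW, hpW, -⟩ := exists_isAffineOpen_mem_and_subset (x := (I * J).subschemeι p) (U := ⊤) trivial
  refine ((I * J).subscheme.presheaf.germ_res_apply (homOfLE (le_top : (I * J).subschemeι ⁻¹ᵁ W ≤ ⊤)) p hpW _).symm.trans ?_
  rw [show ((I * J).subscheme.presheaf.map (homOfLE (le_top : (I * J).subschemeι ⁻¹ᵁ W ≤ ⊤)).op)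
      ((I * J).subschemeι.appTop (OmegaSh.idealSect I ⊤ a * OmegaSh.idealSect J ⊤ b)) =
      (I * J).subschemeι.app W (Z.presheaf.map (homOfLE (le_top : W ≤ ⊤)).op
        (OmegaSh.idealSect I ⊤ a * OmegaSh.idealSect J ⊤ b)) from
    (ConcreteCategory.congr_hom ((I * J).subschemeι.naturality (homOfLE (le_top : W ≤ ⊤)).op) _).symm]
  rw [map_mul, ← OmegaLib.idealSect_map, ← OmegaLib.idealSect_map]
  have hmem : OmegaSh.idealSect I W ((ClSub.idealMod I).presheaf.map (homOfLE (le_top : W ≤ ⊤)).op a) *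
      OmegaSh.idealSect J W ((ClSub.idealMod J).presheaf.map (homOfLE (le_top : W ≤ ⊤)).op b) ∈
        (I * J).ideal ⟨W, hW⟩ :=
    Ideal.mul_mem_mul (OmegaLib.idealSect_mem I ⟨W, hW⟩ _) (OmegaLib.idealSect_mem J ⟨W, hW⟩ _)
  rw [← (I * J).ker_subschemeι_app, RingHom.mem_ker] at hmem
  rw [hmem, map_zero]

/-- Restriction between two closed subschemes. -/
def quotMap' {I J : Z.IdealSheafData} (h : I ≤ J) : ClSub.quotMod I ⟶ ClSub.quotMod J :=
  (Scheme.Modules.pushforward I.subschemeι).map (ClSub.unitToPush (Scheme.IdealSheafData.inclusion h)) ≫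
    (Scheme.Modules.pushforwardComp (Scheme.IdealSheafData.inclusion h) I.subschemeι).hom.app _ ≫
    (Scheme.Modules.pushforwardCongr (Scheme.IdealSheafData.inclusion_subschemeι h)).hom.app _

theorem toSubscheme_quotMap' {I J : Z.IdealSheafData} (h : I ≤ J) :
    ClSub.toSubscheme I ≫ quotMap' h = ClSub.toSubscheme J := by
  apply Scheme.Modules.hom_ext
  intro U
  ext s
  exact (ConcreteCategory.congr_hom
    (Scheme.Hom.congr_app (Scheme.IdealSheafData.inclusion_subschemeι h).symm U) s).symm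

theorem quotMap'_app_top {I J : Z.IdealSheafData} (h : I ≤ J) (z : Γ(I.subscheme, ⊤)) :
    (quotMap' h).app ⊤ (show Γ(ClSub.quotMod I, ⊤) from z) =
      (show Γ(ClSub.quotMod J, ⊤) from (Scheme.IdealSheafData.inclusion h).appTop z) := by
  show (J.subscheme.presheaf.map _).hom ((Scheme.IdealSheafData.inclusion h).appTop z) = _
  exact ConcreteCategory.congr_hom (J.subscheme.presheaf.map_id _) _

section Base

variable {A : Type u} [CommRing A] [Z.Over (Spec (CommRingCat.of A))]

/-- What vanishes on a closed subscheme kills its structure sheaf. -/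
theorem mem_killIdeal_quotMod {K : Z.IdealSheafData} {a : A}
    (ha : K.subschemeι.appTop (Coh.toGlobal (Z ↘ Spec (CommRingCat.of A)) a : Γ(Z, ⊤)) = 0) :
    a ∈ FFun.killIdeal (A := A) (ClSub.quotMod K) := by
  rw [FFun.mem_killIdeal]
  refine Scheme.Modules.hom_ext _ _ fun U => ?_
  ext m
  refine (FFun.smulMod_app _ a U m).trans ?_
  show (K.subschemeι.app U ((Z.presheaf.map (homOfLE (le_top : U ≤ ⊤)).op).hom
    (Coh.toGlobal (Z ↘ Spec (CommRingCat.of A)) a : Γ(Z, ⊤)))) * _ = 0
  rw [show K.subschemeι.app U ((Z.presheaf.map (homOfLE (le_top : U ≤ ⊤)).op).hom _) =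
    (K.subscheme.presheaf.map (homOfLE (le_top : K.subschemeι ⁻¹ᵁ U ≤ ⊤)).op).hom
      (K.subschemeι.appTop (Coh.toGlobal (Z ↘ Spec (CommRingCat.of A)) a : Γ(Z, ⊤))) from
    ConcreteCategory.congr_hom (K.subschemeι.naturality (homOfLE (le_top : U ≤ ⊤)).op) _]
  rw [ha, map_zero]
  exact zero_mul _

/-- An ideal sheaf below the `J`-multiples kills the reduction modulo `J`. -/
theorem exists_desc (J : Ideal A) (K : Z.IdealSheafData)
    (hK : K ≤ (BlowUpLib.centre J).comap (Z ↘ Spec (CommRingCat.of A))) :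
    ∃ e : ClSub.quotMod K ⟶ FFun.modJ J (Coh.structureModule Z),
      ClSub.toSubscheme K ≫ e = FFun.modJπ J (Coh.structureModule Z) := by
  have h0 : ClSub.idealModι K ≫ FFun.modJπ J (Coh.structureModule Z) = 0 := by
    ext U s
    refine AModX.eq_of_locally (M := FFun.modJ J (Coh.structureModule Z)) _ _ fun p hp => ?_
    obtain ⟨V, hV, hpV, hVU⟩ := exists_isAffineOpen_mem_and_subset (x := p) (U := U) hp
    refine ⟨V, hVU, hpV, ?_⟩
    rw [← AModX.app_res, ← AModX.app_res]
    have hmem := hK ⟨V, hV⟩ (OmegaLib.idealSect_mem K ⟨V, hV⟩ (AModX.res (ClSub.idealMod K) hVU s))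
    rw [BlowUpLib.ideal_comap_centre] at hmem
    have hstr : BlowUpLib.strHom (Z ↘ Spec (CommRingCat.of A)) V = FFun.φsec (X := Z) (A := A) V := by
      ext a
      simp [BlowUpLib.strHom, FFun.φsec, Coh.toGlobal, Coh.resTop, Scheme.Hom.appLE]
      rfl
    rw [hstr] at hmem
    have hsm : (show Γ(Coh.structureModule Z, V) from OmegaSh.idealSect K V (AModX.res (ClSub.idealMod K) hVU s)) ∈
        J.map (FFun.φsec (X := Z) (A := A) V) • (⊤ : Submodule Γ(Z, V) Γ(Coh.structureModule Z, V)) := by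
      have h := Submodule.smul_mem_smul hmem (show (show Γ(Coh.structureModule Z, V) from (1 : Γ(Z, V))) ∈
        (⊤ : Submodule Γ(Z, V) Γ(Coh.structureModule Z, V)) from trivial)
      convert h using 1
      exact (mul_one (OmegaSh.idealSect K V (AModX.res (ClSub.idealMod K) hVU s) : Γ(Z, V))).symm
    exact FFun.π_app_eq_zero (Coh.structureModule Z) J V hsm
  haveI := ClosedHom7.epi_toSubscheme K
  exact ⟨Abelian.epiDesc (ClSub.toSubscheme K) (FFun.modJπ J (Coh.structureModule Z)) h0,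
    Abelian.comp_epiDesc _ _ h0⟩

/-- Functions on the thick subscheme come from global functions, after restriction to the thin one. -/
theorem exists_lift (m : Ideal A) {n k : ℕ} (hnk : n ≤ k)
    (hG : ∀ y : Coh.HH Z (FFun.modJ (m ^ k) (Coh.structureModule Z)) 0,
      ∃ z : Coh.HH Z (Coh.structureModule Z) 0, mapLin A (FFun.modJπ (m ^ n) (Coh.structureModule Z)) 0 z =
        mapLin A (FFun.trJ (Ideal.pow_le_pow_right hnk) (Coh.structureModule Z)) 0 y)
    {K K' : Z.IdealSheafData} (hKK' : K ≤ K')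
    (hK : K ≤ (BlowUpLib.centre (m ^ k)).comap (Z ↘ Spec (CommRingCat.of A)))
    (hK' : m ^ n ≤ FFun.killIdeal (A := A) (ClSub.quotMod K')) (σ : Γ(K.subscheme, ⊤)) :
    ∃ z : Γ(Z, ⊤), K'.subschemeι.appTop z = (Scheme.IdealSheafData.inclusion hKK').appTop σ := by
  obtain ⟨e, he⟩ := exists_desc (m ^ k) K hK
  haveI := ClosedHom7.epi_toSubscheme K
  let tr := FFun.trJ (Ideal.pow_le_pow_right (I := m) hnk) (Coh.structureModule Z)
  let de := FFun.descJ (ClSub.toSubscheme K') hK'
  have hc : e ≫ tr ≫ de = quotMap' hKK' := by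
    rw [← cancel_epi (ClSub.toSubscheme K), ← Category.assoc, he, toSubscheme_quotMap']
    show FFun.modJπ _ _ ≫ FFun.trJ _ _ ≫ de = _
    rw [FFun.π_descJ_assoc, FFun.π_descJ]
  let h0 := fun (M : Z.Modules) => Sheaf.H.equiv₀ (Coh.toAb M) isTerminalTop
  have hnat : ∀ {M N : Z.Modules} (φ : M ⟶ N) (x : Coh.HH Z M 0),
      h0 N (mapLin A φ 0 x) = φ.app ⊤ (h0 M x) := fun φ x =>
    (Sheaf.H.equiv₀_naturality isTerminalTop ((QCoh.toAbFunctor Z).map φ) x).symm
  obtain ⟨z, hz⟩ := hG ((h0 _).symm (e.app ⊤ (show Γ(ClSub.quotMod K, ⊤) from σ)))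
  refine ⟨(h0 (Coh.structureModule Z) z : Γ(Z, ⊤)), ?_⟩
  have h1 := congrArg (fun w => de.app ⊤ (h0 _ w)) hz
  simp only [hnat] at h1
  rw [AddEquiv.apply_symm_apply] at h1
  refine Eq.trans (Eq.trans ?_ h1) ?_
  · exact (congr(($(FFun.π_descJ (ClSub.toSubscheme K') hK')).app ⊤ (h0 (Coh.structureModule Z) z))).symm
  · refine (congr(($hc).app ⊤ (show Γ(ClSub.quotMod K, ⊤) from σ))).trans ?_
    exact quotMap'_app_top hKK' σ

end Base

end Groth.Agent.H26.Castel
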