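import Groth.Agent.GGMul.Span
import Groth.Agent.H26.EulerFibre
import Groth.Agent.SheafHomX.Smul
import Groth.Agent.OmegaLib.IdealMod

/-!
# Functions vanishing twice on a divisor are sums of products
-/

noncomputable section

set_option autoImplicit false
set_option linter.style.haveILetI false
set_option linter.unusedSectionVars false
set_option backward.isDefEq.respectTransparency false
set_option backward.isDefEq.respectTransparency.types false
set_option maxHeartbeats 1000000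

universe u

open CategoryTheory CategoryTheory.Limits AlgebraicGeometry TopologicalSpace Opposite
open Groth.Agent.H23

namespace Groth.Agent.H26.Castel

open Groth.Agent RelPC17

variable {X Y : Scheme.{u}} [IsNoetherian X] (f : X ⟶ Y) [IsProper f] [IsAffine Y]
  (hd : ∀ y : Y, topologicalKrullDim ↥(f.fiber y) ≤ (1 : ℕ))
  (hO : Subsingleton (Coh.HH X (Coh.structureModule X) 1))
  (I : X.IdealSheafData) (hI : BlowUp.IsEffCartierIdeal I)
  (hgen : ∀ x : X, ∃ s : Γ(ClSub.idealMod I, ⊤), x ∈ TrivBasic.locus s)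

theorem μ_naturality {A M M' : X.Modules} (w : M ⟶ M') (s : Γ(A, ⊤)) :
    GGMul.μ M s ≫ ((DCoh.tensorBi (X := X)).map w).app A = w ≫ GGMul.μ M' s := by
  refine Scheme.Modules.hom_ext _ _ fun U => ?_
  ext a
  exact KFlatLib.tmSh_naturality_left w A (U := U) a (AModX.res A (le_top : U ≤ ⊤) s)

include hd hO hI hgen in
/-- Sections vanishing on `2D` are sums of products of sections vanishing on `D`. -/
theorem ker_sq_le :
    RingHom.ker (I * I).subschemeι.appTop.hom ≤
      RingHom.ker I.subschemeι.appTop.hom * RingHom.ker I.subschemeι.appTop.hom := by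
  classical
  haveI : CompactSpace X := QuasiCompact.compactSpace_of_compactSpace f
  haveI : QuasiSeparatedSpace X := quasiSeparatedSpace_of_quasiSeparated f
  let A := ClSub.idealMod I
  have hA : PicF.IsInvertible A := IdealCl.isInvertible_idealMod hI
  let N := Coh.structureModule X
  have hN : PicF.IsInvertible N := InvStalk.isInvertible_structureModule
  let M := CohB1.tensorMod N A
  have hM : PicF.IsInvertible M := InvX.isInvertible_tensorMod hN hA
  let s : Γ(A, ⊤) → Γ(A, ⊤) := id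
  haveI := GGMul.epi_lift s hA hgen hN
  haveI := GGMul.epi_φ s hA hgen hA
  haveI := DimOne.subsingleton_coprod (fun _ : Γ(A, ⊤) × Γ(A, ⊤) => N) 1 fun _ => hO
  have hqM : Coh.IsQCoh (∐ fun _ : Γ(A, ⊤) => M) :=
    LocFinCoprod.isQCoh_coprod fun _ => (CurveDeg.isCoh_of_isInvertible hM).1
  have hqMA : Coh.IsQCoh (CohB1.tensorMod M A) :=
    (CurveDeg.isCoh_of_isInvertible (InvX.isInvertible_tensorMod hM hA)).1
  have hK : Subsingleton (Coh.HH X (kernel (GGMul.φ s M)) 1) :=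
    (DimOne.hmap_surjective f hd (kernel.lift (GGMul.φ s M) (GGMul.ψ s N) (GGMul.ψ_φ s hA hgen hN))
      (LocFinCoprod.isQCoh_coprod fun _ => QCoh.isQCoh_structureModule)
      (QCoh.isQCoh_kernel hqM hqMA _)).subsingleton
  letI := PicMul.clMonoid X
  obtain ⟨w⟩ : Nonempty (A ≅ M) := PicMul.cl_eq_iff.1 (by
    show PicF.cl A = PicF.cl (CohB1.tensorMod N A)
    rw [PicMul.cl_tensor, ← PicMul.one_def, one_mul])
  have hsq : GGMul.φ s A ≫ (((DCoh.tensorBi (X := X)).mapIso w).app A).hom =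
      (Sigma.mapIso fun _ : Γ(A, ⊤) => w).hom ≫ GGMul.φ s M := by
    refine Sigma.hom_ext _ _ fun i => ?_
    refine ((Category.assoc _ _ _).symm.trans (congrArg (· ≫ _) (Sigma.ι_desc _ i))).trans ?_
    refine (μ_naturality w.hom (s i)).trans ?_
    refine Eq.trans ?_ (Category.assoc _ _ _)
    rw [show Sigma.ι (fun _ : Γ(A, ⊤) => A) i ≫ (Sigma.mapIso fun _ : Γ(A, ⊤) => w).hom =
      w.hom ≫ Sigma.ι (fun _ : Γ(A, ⊤) => M) i from by simp [Sigma.mapIso], Category.assoc]
    exact congrArg (w.hom ≫ ·) (Sigma.ι_desc _ i).symm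
  let eK : kernel (GGMul.φ s A) ≅ kernel (GGMul.φ s M) := kernel.mapIso _ _ _ _ hsq
  have hK' : Subsingleton (Coh.HH X (kernel (GGMul.φ s A)) 1) := QCoh.subsingleton_HH_of_iso eK.symm 1 hK
  have hS : (ShortComplex.mk (kernel.ι (GGMul.φ s A)) (GGMul.φ s A) (kernel.condition _)).ShortExact :=
    { exact := ShortComplex.exact_of_f_is_kernel _ (kernelIsKernel _) }
  obtain ⟨e, he⟩ := EulerFibre.exists_mul_iso I I hI
  intro z hz
  obtain ⟨c, hc⟩ := OmegaLib.exists_idealSect_eq (I * I) ⊤ z (RingHom.mem_ker.1 hz)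
  obtain ⟨b, hb⟩ := FibTriv.app_top_surjective hS hK' (show Γ(CohB1.tensorMod A A, ⊤) from e.inv.app ⊤ c)
  obtain ⟨κ, _, i, g, hg⟩ := DimOne.exists_sum (fun _ : Γ(A, ⊤) => A) 0
    ((Sheaf.H.equiv₀ (Coh.toAb (∐ fun _ : Γ(A, ⊤) => A)) isTerminalTop).symm b)
  have hb' : b = ∑ j, (Sigma.ι (fun _ : Γ(A, ⊤) => A) (i j)).app ⊤
      (Sheaf.H.equiv₀ (Coh.toAb A) isTerminalTop (g j)) := by
    have h1 := congrArg (Sheaf.H.equiv₀ (Coh.toAb (∐ fun _ : Γ(A, ⊤) => A)) isTerminalTop) hg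
    rw [AddEquiv.apply_symm_apply, map_sum] at h1
    exact h1.trans (Finset.sum_congr rfl fun j _ =>
      (Sheaf.H.equiv₀_naturality isTerminalTop ((QCoh.toAbFunctor X).map (Sigma.ι (fun _ : Γ(A, ⊤) => A) (i j)))
        (g j)).symm)
  have hz' : z = OmegaSh.fnSect X ⊤ ((DivisorExt.mulIdeal I A ≫ ClSub.idealModι I).app ⊤ ((GGMul.φ s A).app ⊤ b)) := by
    rw [← he]
    show z = OmegaSh.idealSect (I * I) ⊤ (e.hom.app ⊤ ((GGMul.φ s A).app ⊤ b))
    rw [hb, show e.hom.app ⊤ (e.inv.app ⊤ c) = c from congr(($(e.inv_hom_id)).app ⊤ c)]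
    exact hc.symm
  rw [hz', hb', map_sum, map_sum, map_sum]
  refine Ideal.sum_mem _ fun j _ => ?_
  let a : Γ(A, ⊤) := Sheaf.H.equiv₀ (Coh.toAb A) isTerminalTop (g j)
  have h1 : (GGMul.φ s A).app ⊤ ((Sigma.ι (fun _ : Γ(A, ⊤) => A) (i j)).app ⊤ a) =
      QCoh.tmS A A a (i j) := by
    refine (congr(($(Sigma.ι_desc (fun k => GGMul.μ A (s k)) (i j))).app ⊤ a)).trans ?_
    rw [GGMul.μ_app, AModX.res_self]
    rfl
  rw [h1]
  show OmegaSh.fnSect X ⊤ ((ClSub.idealModι I).app ⊤ ((DivisorExt.mulIdeal I A).app ⊤ (QCoh.tmS A A a (i j)))) ∈ _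
  rw [DivisorExt.mulIdeal_tmS, ← OmegaSh.idealSect_apply, OmegaLib.idealSect_smul, mul_comm]
  exact Ideal.mul_mem_mul (RingHom.mem_ker.2 (OmegaLib.subschemeι_app_idealSect I ⊤ (i j)))
    (RingHom.mem_ker.2 (OmegaLib.subschemeι_app_idealSect I ⊤ a))

end Groth.Agent.H26.Castel
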