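import Groth.Agent.H26.Castel.Contraction
import Groth.Agent.H26.H0One
import Groth.Agent.RelPC17.FibTriv
import Groth.Agent.FrobIter.Basic

/-!
# Thickenings of a line
-/

noncomputable section

set_option autoImplicit false
set_option linter.style.haveILetI false
set_option linter.unusedSectionVars false
set_option backward.isDefEq.respectTransparency false
set_option backward.isDefEq.respectTransparency.types false
set_option maxHeartbeats 1000000

universe u

open CategoryTheory CategoryTheory.Limits AlgebraicGeometry TopologicalSpace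
open Groth.Agent.H23

namespace Groth.Agent.H26.Castel

open Groth.Agent

variable {R : Type u} [CommRing R] [IsDomain R] [IsDiscreteValuationRing R] {X : Over (Spec (CommRingCat.of R))}
  {hX : ArSurf.IsArithSurface R X} {E : ArSurf.VertComp R X} {L : X.left.Modules} {d : ℕ}

theorem quotMap_app_top {I J : X.left.IdealSheafData} (h : I ≤ J) (z : Γ(I.subscheme, ⊤)) :
    (Chain.quotMap h).app ⊤ (show Γ(ClSub.quotMod I, ⊤) from z) =
      (show Γ(ClSub.quotMod J, ⊤) from (Scheme.IdealSheafData.inclusion h).appTop z) := by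
  show (J.subscheme.presheaf.map _).hom ((Scheme.IdealSheafData.inclusion h).appTop z) = _
  exact ConcreteCategory.congr_hom (J.subscheme.presheaf.map_id _) _

theorem prod_one (a : Fin 1 → ℕ) : ∏ j, (![E] j).ι.ker ^ a j = E.ι.ker ^ a 0 := by
  rw [Fin.prod_univ_one]
  rfl

theorem isEffCartier_pow (hX : ArSurf.IsArithSurface R X) (E : ArSurf.VertComp R X) (a : ℕ) :
    BlowUp.IsEffCartierIdeal (E.ι.ker ^ a) := by
  have h := (IdealCl.eff_and_cl_prod Finset.univ (fun j : Fin 1 => (![E] j).ι.ker)
    (fun j => by rw [Fin.eq_zero j]; exact Adjunction.heff_vert hX E) (fun _ => a)).1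
  rwa [prod_one] at h

/-- The thickenings have no first cohomology. -/
theorem IsNegLine.subsingleton_H1_thick (h : IsNegLine hX E L d) (a : ℕ) :
    Subsingleton (Coh.HH X.left (ClSub.quotMod (E.ι.ker ^ a)) 1) := by
  obtain ⟨ω, hω⟩ := exists_canonical hX
  have := Adjunction.subsingleton_H1_divisor hX (Γ := ![E]) (L := ![L])
    (fun j => by rw [Fin.eq_zero j]; exact h.inv) hω _ (fun _ => a) rfl (h.negBelow hω _)
  rwa [prod_one] at this

/-- Functions lift to the thicker thickenings. -/
theorem IsNegLine.surjective_step (h : IsNegLine hX E L d) (a : ℕ)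
    (hle : E.ι.ker ^ (a + 1) ≤ E.ι.ker ^ a) :
    Function.Surjective (Scheme.IdealSheafData.inclusion hle).appTop := by
  haveI := Adjunction.isProper_hom hX
  have hJ := isEffCartier_pow hX E a
  obtain ⟨J, hJdef⟩ : ∃ J, J = E.ι.ker ^ a := ⟨_, rfl⟩
  obtain ⟨I, hIdef⟩ : ∃ I, I = E.ι.ker ^ (a + 1) := ⟨_, rfl⟩
  rw [← hJdef] at hJ
  have hI : I = J * E.ι.ker := by rw [hIdef, hJdef, pow_succ]
  obtain ⟨f, w, hS⟩ := Adjunction.exists_step_ses E hJ (RelCurveDiv.mul_le_left J E.ι.ker)
  have hdeg : -2 * FGA.eulerCharLE (IsLocalRing.ResidueField R) E.curve.left (Coh.structureModule E.curve.left) 1 <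
      ArSurf.inter R X (ClSub.idealMod J) E := by
    rw [EulerFibre.wdeg_sub_h1, h.h1, Nat.cast_zero, sub_zero, hJdef, ← prod_one (E := E) (fun _ => a),
      Chain.inter_prod (fun j => by rw [Fin.eq_zero j]; exact Adjunction.heff_vert hX E) (L := ![L])
        (fun j => by rw [Fin.eq_zero j]; exact h.inv)]
    simp only [Fin.sum_univ_one, Matrix.cons_val_fin_one, h.self]
    have hw : (0 : ℤ) < Models.wdeg R X E := by exact_mod_cast WDeg.wdeg_pos E
    have h2 : (0 : ℤ) ≤ (a : ℤ) * d * Models.wdeg R X E := by positivity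
    linarith
  have hA := PicClLib.isInvertible_pullback E.ι (IdealCl.isInvertible_idealMod hJ)
  haveI := Adjunction.subsingleton_H1 hX E hA hdeg
  obtain ⟨e⟩ := QCoh.HH_push_of_isAffineHom E.ι (QCoh.isQCoh_pullback E.ι (PPSheaf.isQCoh_idealMod J)) 1
  have key : ∀ (I' J' : X.left.IdealSheafData) (h' : I' ≤ J'), I' = J * E.ι.ker → J' = J →
      Function.Surjective (Scheme.IdealSheafData.inclusion h').appTop := by
    rintro I' J' h' rfl rfl
    intro z
    obtain ⟨c, hc⟩ := RelPC17.FibTriv.app_top_surjective hS e.symm.toEquiv.subsingleton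
      (show Γ(ClSub.quotMod J', ⊤) from z)
    exact ⟨c, (quotMap_app_top h' c).symm.trans hc⟩
  exact key _ _ hle (by rw [← hIdef, hI]) hJdef.symm

theorem IsNegLine.surjective_inclusion (h : IsNegLine hX E L d) {a b : ℕ} (hab : a ≤ b)
    (hle : E.ι.ker ^ b ≤ E.ι.ker ^ a) :
    Function.Surjective (Scheme.IdealSheafData.inclusion hle).appTop := by
  induction b, hab using Nat.le_induction with
  | base =>
    rw [Scheme.IdealSheafData.inclusion_id]
    exact fun z => ⟨z, rfl⟩
  | succ b hab ih =>
    have h1 : E.ι.ker ^ (b + 1) ≤ E.ι.ker ^ b := FrobIter.pow_le_pow_right (Nat.le_succ b)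
    have h2 : E.ι.ker ^ b ≤ E.ι.ker ^ a := FrobIter.pow_le_pow_right hab
    have hc : (Scheme.IdealSheafData.inclusion hle).appTop =
        (Scheme.IdealSheafData.inclusion h1).appTop ≫ (Scheme.IdealSheafData.inclusion h2).appTop := by
      rw [← Scheme.Hom.comp_appTop, Scheme.IdealSheafData.inclusion_comp]
    intro z
    exact ((ih h2).comp (h.surjective_step b h1) z).imp fun c hc' => (ConcreteCategory.congr_hom hc c).trans hc'

/-- The length over the base of the functions on a thickening. -/
theorem IsNegLine.length_thick (h : IsNegLine hX E L d) (a : ℕ) (ha : a = 1 ∨ a = 2) :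
    letI := (Chain.rho X (E.ι.ker ^ a)).toAlgebra
    Module.length R Γ((E.ι.ker ^ a).subscheme, ⊤) =
      ((if a = 1 then Models.wdeg R X E else (d + 2) * Models.wdeg R X E : ℕ) : ℕ∞) := by
  haveI := Adjunction.isProper_hom hX
  obtain ⟨ω, hω⟩ := exists_canonical hX
  obtain ⟨hgood, hchi⟩ := Adjunction.good_chi (Γ := ![E]) (L := ![L]) hX (fun i j _ => Subsingleton.elim i j)
    (fun j => by rw [Fin.eq_zero j]; exact h.inv) ω hω _ (fun _ => a) rfl
  rw [prod_one] at hgood hchi
  haveI h1 := h.subsingleton_H1_thick a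
  letI : (E.ι.ker ^ a).subscheme.Over (Spec (CommRingCat.of R)) := ⟨(E.ι.ker ^ a).subschemeι ≫ X.hom⟩
  obtain ⟨e⟩ := PnCoh.exists_linearEquiv_push R (E.ι.ker ^ a).subschemeι (P := X.left) rfl
    (QCoh.isQCoh_structureModule (X := (E.ι.ker ^ a).subscheme)) 0
  letI := (Chain.rho X (E.ι.ker ^ a)).toAlgebra
  have hl : Module.length R Γ((E.ι.ker ^ a).subscheme, ⊤) =
      Module.length R (Coh.HH X.left (ClSub.quotMod (E.ι.ker ^ a)) 0) :=
    (FibModel.h0Equiv ((E.ι.ker ^ a).subschemeι ≫ X.hom)).length_eq.symm.trans e.length_eq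
  rw [hl]
  have hne := hgood.1 0 (Nat.zero_le _)
  obtain ⟨n, hn⟩ := ENat.ne_top_iff_exists.1 hne
  rw [← hn]
  simp only [EulerFibre.chi, Models.lengthH] at hchi
  rw [← hn, ENat.toNat_coe, Module.length_eq_zero, ENat.toNat_zero, Nat.cast_zero, sub_zero] at hchi
  simp only [Adjunction.adjForm, Fin.sum_univ_one, Matrix.cons_val_fin_one, h.self, h.inter_canonical hω] at hchi
  refine congrArg Nat.cast ?_
  rcases ha with rfl | rfl
  · rw [if_pos rfl]
    push_cast at hchi
    zify
    linarith
  · rw [if_neg (by decide)]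
    push_cast at hchi
    zify
    push_cast
    linarith

end Groth.Agent.H26.Castel
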