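import Groth.Agent.H26.Adjunction.Exceptional
import Groth.Agent.S1533

/-!
# Invertible modules of non-negative degree on a line
-/

noncomputable section

set_option autoImplicit false
set_option linter.style.haveILetI false
set_option linter.unusedSectionVars false
set_option backward.isDefEq.respectTransparency false
set_option backward.isDefEq.respectTransparency.types false
set_option maxHeartbeats 1000000

universe u

open CategoryTheory CategoryTheory.Limits AlgebraicGeometry TopologicalSpace
open Groth.Agent.H23

namespace Groth.Agent.H26.Castel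

open Groth.Agent

variable {R : Type u} [CommRing R] [IsDomain R] [IsDiscreteValuationRing R] {X : Over (Spec (CommRingCat.of R))}

/-- On a vertical curve without first cohomology, non-negative degree implies global generation. -/
theorem isGloballyGenerated_of_deg_nonneg (hX : ArSurf.IsArithSurface R X) {E : ArSurf.VertComp R X}
    (h1 : Models.h1 R X E = 0) {M : E.curve.left.Modules} (hM : PicF.IsInvertible M)
    (hdeg : 0 ≤ ArSurf.curveDeg (IsLocalRing.ResidueField R) E.curve.left M) :
    Curv2.IsGloballyGenerated M := by
  haveI := Adjunction.isProper_hom hX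
  haveI := E.isIntegral
  let k := IsLocalRing.ResidueField R
  let Y := E.curve.left
  haveI : IsProper (E.curve.left ↘ Spec (CommRingCat.of k)) := ArInter.isProper_curve E
  haveI := CurveCohLib.isNoetherian_of_proper (k := k) (X := Y)
  have hw0 : 0 < Models.wdeg R X E := WDeg.wdeg_pos E
  have hwne : (Models.wdeg R X E : ℤ) ≠ 0 := Int.natCast_ne_zero.2 hw0.ne'
  obtain ⟨K, instK, algK, o, hprop, -, -, htow⟩ := Adjunction.exists_constants' k Y
  letI := instK
  letI := algK
  letI := o
  haveI : IsProper (Y ↘ Spec (CommRingCat.of K)) := hprop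
  have hmul : ∀ (N : Y.Modules) (i : ℕ), (Module.finrank k (Coh.HH Y N i) : ℤ) =
      (Models.wdeg R X E : ℤ) * (Module.finrank K (Coh.HH Y N i) : ℤ) :=
    fun N i => by rw [htow N i, Nat.cast_mul]; rfl
  have e0 : Module.finrank K (Coh.HH Y (Coh.structureModule Y) 0) = 1 := by
    have h := hmul (Coh.structureModule Y) 0
    rw [show Module.finrank k (Coh.HH Y (Coh.structureModule Y) 0) = Models.wdeg R X E from rfl] at h
    exact_mod_cast mul_left_cancel₀ hwne (h.symm.trans (mul_one _).symm)
  have e1 : Module.finrank K (Coh.HH Y (Coh.structureModule Y) 1) = 0 := by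
    have h := hmul (Coh.structureModule Y) 1
    rw [show Module.finrank k (Coh.HH Y (Coh.structureModule Y) 1) = 0 from h1, Nat.cast_zero, eq_comm,
      mul_eq_zero, or_iff_right hwne] at h
    exact_mod_cast h
  haveI := CurveCohLib.isNoetherian_of_proper (k := K) (X := Y)
  refine S1533.result K Y E.dim_eq e0 M hM ?_
  have hg : (Curv2.genus K Y : ℤ) = 0 := by
    exact_mod_cast (e1 : Curv2.genus K Y = 0)
  rw [hg, mul_zero]
  unfold Curv2.deg
  rw [CurveRR.euler_eq_h0_sub_h1 (k := K) (X := Y) E.dim_eq.le (CurveDeg.isCoh_of_isInvertible hM).1,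
    CurveRR.euler_eq_h0_sub_h1 (k := K) (X := Y) E.dim_eq.le (QCoh.isQCoh_structureModule (X := Y))]
  simp only [ArSurf.curveDeg, FGA.eulerCharLE, Finset.sum_range_succ, Finset.sum_range_zero] at hdeg
  push_cast at hdeg ⊢
  rw [hmul, hmul, hmul, hmul] at hdeg
  have hwpos : (0 : ℤ) < Models.wdeg R X E := by exact_mod_cast hw0
  have := fun z : ℤ => (mul_nonneg_iff_of_pos_left hwpos (b := z)).1
  nlinarith

end Groth.Agent.H26.Castel
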