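import Mathlib

/-!
# The cotangent dimension from lengths
-/

noncomputable section

set_option autoImplicit false
set_option linter.style.haveILetI false
set_option backward.isDefEq.respectTransparency false
set_option backward.isDefEq.respectTransparency.types false

universe u

open IsLocalRing

namespace Groth.Agent.H26.Castel

/-- The length of `S / 𝔪²` is one plus the cotangent dimension. -/
theorem length_quot_sq (S : Type u) [CommRing S] [IsLocalRing S] [IsNoetherianRing S] :
    Module.length S (S ⧸ maximalIdeal S ^ 2) =
      (1 : ℕ∞) + (Module.finrank (ResidueField S) (CotangentSpace S) : ℕ∞) := by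
  let g : (S ⧸ maximalIdeal S ^ 2) →ₗ[S] S ⧸ maximalIdeal S :=
    Submodule.factor (Ideal.pow_le_self two_ne_zero)
  have hg : Function.Surjective g := Submodule.factor_surjective _
  have hex : Function.Exact (maximalIdeal S).cotangentToQuotientSquare g := by
    rw [LinearMap.exact_iff, Ideal.range_cotangentToQuotientSquare]
    ext x
    obtain ⟨x, rfl⟩ := Ideal.Quotient.mk_surjective x
    show g (Submodule.Quotient.mk x) = 0 ↔ Ideal.Quotient.mk _ x ∈ (maximalIdeal S).cotangentIdeal
    rw [Ideal.mk_mem_cotangentIdeal]
    exact Ideal.Quotient.eq_zero_iff_mem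
  rw [Module.length_eq_add_of_exact _ g (Ideal.cotangentToQuotientSquare_injective _) hg hex, add_comm]
  congr 1
  · haveI : IsSimpleModule S (S ⧸ maximalIdeal S) := isSimpleModule_iff_quot_maximal.2
      ⟨maximalIdeal S, inferInstance, ⟨LinearEquiv.refl _ _⟩⟩
    exact Module.length_eq_one S _
  · rw [Module.length_eq_of_surjective (R := ResidueField S) (M := CotangentSpace S) residue_surjective,
      Module.length_eq_finrank]

/-- The cotangent dimension from the lengths over the base. -/
theorem finrank_cotangent_of_length {R S : Type u} [CommRing R] [IsLocalRing R] [CommRing S] [IsLocalRing S]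
    [IsNoetherianRing S] [Algebra R S] {w D : ℕ} (hw : 0 < w)
    (h1 : Module.length R (S ⧸ maximalIdeal S) = (w : ℕ∞))
    (h2 : Module.length R (S ⧸ maximalIdeal S ^ 2) = ((D + 1) * w : ℕ)) :
    Module.finrank (ResidueField S) (CotangentSpace S) = D := by
  haveI hfin : Module.Finite R (S ⧸ maximalIdeal S) := by
    have h : IsFiniteLength R (S ⧸ maximalIdeal S) := Module.length_ne_top_iff.1 (by rw [h1]; exact ENat.coe_ne_top w)
    haveI := (isFiniteLength_iff_isNoetherian_isArtinian.1 h).1
    infer_instance
  haveI : IsLocalHom (algebraMap R S) := by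
    refine ⟨fun r hr => ?_⟩
    by_contra hr'
    have hbot : (⊤ : Submodule R (S ⧸ maximalIdeal S)) = ⊥ := by
      refine Submodule.eq_bot_of_le_smul_of_le_jacobson_bot (maximalIdeal R) _ Module.Finite.fg_top (fun x _ => ?_)
        (maximalIdeal_le_jacobson _)
      obtain ⟨v, hv⟩ := hr
      obtain ⟨x, rfl⟩ := Ideal.Quotient.mk_surjective x
      have : Ideal.Quotient.mk (maximalIdeal S) x = r • Ideal.Quotient.mk (maximalIdeal S) ((↑v⁻¹ : S) * x) := by
        rw [Algebra.smul_def, ← Ideal.Quotient.mk_algebraMap, ← map_mul, ← mul_assoc, ← hv,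
          Units.mul_inv, one_mul]
      rw [this]
      exact Submodule.smul_mem_smul hr' Submodule.mem_top
    haveI : Subsingleton (S ⧸ maximalIdeal S) := (Submodule.subsingleton_iff R).1 (subsingleton_of_bot_eq_top hbot.symm)
    rw [Module.length_eq_zero] at h1
    exact hw.ne' (by exact_mod_cast h1.symm)
  haveI : IsSimpleModule S (S ⧸ maximalIdeal S) := isSimpleModule_iff_quot_maximal.2
    ⟨maximalIdeal S, inferInstance, ⟨LinearEquiv.refl _ _⟩⟩
  rw [IsLocalRing.length_restrictScalars R S (S ⧸ maximalIdeal S), Module.length_eq_one S _, one_mul] at h1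
  rw [IsLocalRing.length_restrictScalars R S (S ⧸ maximalIdeal S ^ 2), length_quot_sq, h1] at h2
  have h3 : (1 + Module.finrank (ResidueField S) (CotangentSpace S)) * w = (D + 1) * w := by
    exact_mod_cast h2
  have := Nat.eq_of_mul_eq_mul_right hw h3
  omega

end Groth.Agent.H26.Castel
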