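import Groth.Agent.H26.Castel.Sections
import Groth.Agent.H26.Castel.Square
import Groth.Agent.H26.ArtinTriv.Contract
import Groth.Agent.CurveCohLib.Proper
import Groth.Agent.FrobIter.Basic

/-!
# The local ring of a contraction with trivial higher cohomology
-/

noncomputable section

set_option autoImplicit false
set_option linter.style.haveILetI false
set_option linter.unusedSectionVars false
set_option backward.isDefEq.respectTransparency false
set_option backward.isDefEq.respectTransparency.types false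
set_option maxHeartbeats 1000000

universe u

open CategoryTheory CategoryTheory.Limits AlgebraicGeometry TopologicalSpace Opposite
open Groth.Agent.H23
open Groth.Agent.PnCoh.Finite (mapLin deltaLin)

namespace Groth.Agent.H26.Castel

open Groth.Agent RelPC17

/-- A section of the restriction lifts with the same locus of generation. -/
theorem exists_lift_genLocus {X D : Scheme.{u}} (d : D ⟶ X) [IsClosedImmersion d] {P N : X.Modules}
    (hP : PicF.IsInvertible P) (e1 : N ≅ CohB1.tensorMod P (ClSub.idealMod d.ker))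
    (h1 : Subsingleton (Coh.HH X N 1)) (α₀ : Coh.structureModule D ⟶ (Scheme.Modules.pullback d).obj P) :
    ∃ b : Coh.structureModule X ⟶ P, ∀ p ∈ CohB1.genLocus _ α₀, d p ∈ CohB1.genLocus P b := by
  obtain ⟨f, M, g, w, ⟨eM⟩, hS⟩ := ArtinTriv.exists_seq d hP e1
  haveI : Epi g := hS.epi_g
  let adj := Scheme.Modules.pullbackPushforwardAdjunction d
  let α : Coh.structureModule D ⟶ M := α₀ ≫ eM.inv
  let e : Coh.structureModule D ≅ (Scheme.Modules.pullback d).obj (Coh.structureModule X) := (LefFEt.uIso d).symm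
  obtain ⟨b, hb⟩ := LefAmple.exists_lift_of_shortExact hS h1 (adj.homEquiv _ _ (e.inv ≫ α))
  let g' := (adj.homEquiv P M).symm g
  haveI : Epi ((Scheme.Modules.pullbackPushforwardAdjunction d).homEquiv P M g') := by
    rw [show (adj.homEquiv P M g') = g from Equiv.apply_symm_apply _ _]; infer_instance
  haveI : Epi g' := LefPic.epi_of_epi_homEquiv d g'
  haveI : IsIso g' := SeesawX.isIso_of_epi_rank
    (SeesawX.isFinLocFreeOfRank_one (PicClLib.isInvertible_pullback _ hP))
    (SeesawX.isFinLocFreeOfRank_one (PicMul.isInvertible_of_iso eM.symm (PicClLib.isInvertible_pullback _ hP))) g'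
  have h1' : (Scheme.Modules.pullback d).map b ≫ g' = e.inv ≫ α := by
    rw [← Adjunction.homEquiv_naturality_left_symm, hb, Equiv.symm_apply_apply]
  have h2 : e.hom ≫ (Scheme.Modules.pullback d).map b = α ≫ (asIso g').symm.hom := by
    show _ = α ≫ inv g'
    rw [IsIso.eq_comp_inv, Category.assoc, h1', Iso.hom_inv_id_assoc]
  refine ⟨b, fun p hp => ?_⟩
  show p ∈ d ⁻¹ᵁ CohB1.genLocus P b
  rw [← InvX.genLocus_pullback d hP b e, h2, InvX.genLocus_comp_iso]
  show p ∈ CohB1.genLocus M (α₀ ≫ eM.symm.hom)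
  rw [InvX.genLocus_comp_iso]
  exact hp

variable {A : Type u} [CommRing A] {V : Scheme.{u}} [V.Over (Spec (CommRingCat.of A))]

/-- The global functions coming from the base. -/
def gl : A →+* Γ(V, ⊤) :=
  show A →+* Γ(V, ⊤) from Coh.toGlobal (V ↘ Spec (CommRingCat.of A))

/-- The functions from the base on a closed subscheme. -/
def ρ (K : V.IdealSheafData) : A →+* Γ(K.subscheme, ⊤) := K.subschemeι.appTop.hom.comp gl

theorem basicOpen_gl (a : A) :
    V.basicOpen (gl a) = (V ↘ Spec (CommRingCat.of A)) ⁻¹ᵁ PrimeSpectrum.basicOpen a := by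
  rw [← basicOpen_eq_of_affine (R := CommRingCat.of A) a, Scheme.preimage_basicOpen]
  rfl

/-- The sheaf of ideals of a subscheme has no first cohomology when the functions on it lift. -/
theorem subsingleton_H1_idealMod (B : Type u) [CommRing B] [V.Over (Spec (CommRingCat.of B))] (K : V.IdealSheafData)
    (hO : Subsingleton (Coh.HH V (Coh.structureModule V) 1))
    (hs : Function.Surjective K.subschemeι.appTop) :
    Subsingleton (Coh.HH V (ClSub.idealMod K) 1) := by
  obtain ⟨S, hS, h₁, h₂, h₃⟩ : ∃ (S : ShortComplex V.Modules) (_ : S.ShortExact), S.X₁ = ClSub.idealMod K ∧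
      Subsingleton (Coh.HH V S.X₂ 1) ∧ Function.Surjective (S.g.app ⊤) :=
    ⟨_, LefAmple.idealSES_shortExact K, rfl, hO, hs⟩
  rw [← h₁]
  refine subsingleton_of_forall_eq 0 fun x => ?_
  have hx : x ∈ LinearMap.ker (mapLin B S.f 1) := h₂.elim _ _
  rw [CurveCohLib.ker_mapLin_f_succ B hS 0] at hx
  obtain ⟨z, rfl⟩ := hx
  have hz : z ∈ LinearMap.range (mapLin B S.g 0) := by
    obtain ⟨a, ha⟩ := h₃ (Sheaf.H.equiv₀ (Coh.toAb S.X₃) isTerminalTop z)
    refine ⟨(Sheaf.H.equiv₀ (Coh.toAb S.X₂) isTerminalTop).symm a, ?_⟩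
    refine (Sheaf.H.equiv₀ (Coh.toAb S.X₃) isTerminalTop).injective ?_
    refine ((Sheaf.H.equiv₀_naturality isTerminalTop ((QCoh.toAbFunctor V).map S.g) _).symm).trans ?_
    exact (congrArg (fun w => S.g.app ⊤ w) ((Sheaf.H.equiv₀ (Coh.toAb S.X₂) isTerminalTop).apply_symm_apply a)).trans ha
  rw [← CurveCohLib.ker_deltaLin B hS 0] at hz
  exact hz

/-- A global section of the ideal is a frame off the subscheme where it does not vanish. -/
theorem mem_locus_of_notMem (K : V.IdealSheafData) (s : Γ(ClSub.idealMod K, ⊤)) (x : V)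
    (hx : x ∈ V.basicOpen (OmegaSh.idealSect K ⊤ s)) (hxK : x ∉ (K.support : Set V)) :
    x ∈ TrivBasic.locus s := by
  let O : V.Opens := ⟨(K.support : Set V)ᶜ, K.support.isClosed.isOpen_compl⟩
  refine TrivBasic.mem_locus_iff.2 ⟨V.basicOpen (OmegaSh.idealSect K ⊤ s) ⊓ O, ⟨hx, hxK⟩, ?_⟩
  intro W hW
  have hb : Function.Bijective ((ClSub.idealModι K).app W) :=
    ArtinTriv.bijective_app_of_subsingleton (LefAmple.idealSES_shortExact K) W fun W' hW' => by
      have hbot : K.subschemeι ⁻¹ᵁ W' = ⊥ := eq_bot_iff.2 fun p hp =>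
        (hW (hW' hp)).2 (K.range_subschemeι.le ⟨p, rfl⟩)
      show Subsingleton Γ(K.subscheme, K.subschemeι ⁻¹ᵁ W')
      rw [hbot]
      infer_instance
  refine (Function.Bijective.of_comp_iff' hb _).1 ?_
  have hu : IsUnit (V.presheaf.map (homOfLE (le_top : W ≤ ⊤)).op (OmegaSh.idealSect K ⊤ s)) := by
    have h1 := V.toRingedSpace.isUnit_res_basicOpen (OmegaSh.idealSect K ⊤ s)
    have h2 := h1.map (V.presheaf.map (homOfLE (hW.trans inf_le_left)).op).hom
    exact (congrArg IsUnit (ConcreteCategory.congr_hom (V.presheaf.map_comp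
      (homOfLE (le_top : V.basicOpen (OmegaSh.idealSect K ⊤ s) ≤ ⊤)).op (homOfLE (hW.trans inf_le_left)).op)
      (OmegaSh.idealSect K ⊤ s))).mpr h2
  obtain ⟨u, hu'⟩ := hu
  refine (congrArg Function.Bijective (funext fun c => ?_)).mp (Units.mulRight u).bijective
  show c * (u : Γ(V, W)) = OmegaSh.idealSect K W (c • _)
  rw [OmegaLib.idealSect_smul, hu']
  refine congrArg (c * ·) ?_
  rw [AModX.res_res]
  exact (OmegaLib.idealSect_map (K := K) (le_top : W ≤ ⊤) s).symm

set_option maxHeartbeats 4000000 in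
/-- The functions on the first two thickenings. -/
theorem local_structure [IsNoetherianRing A] [IsNoetherian V] [IsProper (V ↘ Spec (CommRingCat.of A))]
    {Y' : Scheme.{u}} (f : V ⟶ Y') [IsProper f] [IsAffine Y']
    (hd : ∀ y : Y', topologicalKrullDim ↥(f.fiber y) ≤ (1 : ℕ))
    (hbij : Function.Bijective (gl (A := A) (V := V)))
    (m : Ideal A) [m.IsMaximal] {C : Scheme.{u}} [IsReduced C] [Nonempty C] (j : C ⟶ V) [IsClosedImmersion j]
    (hI : BlowUp.IsEffCartierIdeal j.ker)
    (hrange : ∀ x : V, x ∈ Set.range j ↔ ((V ↘ Spec (CommRingCat.of A)) x).asIdeal = m)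
    (hoff : ∀ a ∈ m, IsAffineOpen (V.basicOpen (gl a)))
    (hH1 : ∀ n, Subsingleton (Coh.HH V (ClSub.quotMod (j.ker ^ n)) 1))
    (hsurj : ∀ a b : ℕ, a ≤ b → ∀ hle : j.ker ^ b ≤ j.ker ^ a,
      Function.Surjective (Scheme.IdealSheafData.inclusion hle).appTop)
    (hgg : Curv2.IsGloballyGenerated ((Scheme.Modules.pullback j).obj (ClSub.idealMod j.ker))) :
    (Function.Surjective (ρ (A := A) (j.ker ^ 1)) ∧ RingHom.ker (ρ (A := A) (j.ker ^ 1)) = m) ∧
    (Function.Surjective (ρ (A := A) (j.ker ^ 2)) ∧ RingHom.ker (ρ (A := A) (j.ker ^ 2)) = m ^ 2) := by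
  classical
  obtain ⟨I, hIdef⟩ : ∃ I, I = j.ker := ⟨_, rfl⟩
  let g := V ↘ Spec (CommRingCat.of A)
  have hsupp : (I.support : Set V) = Set.range j := by
    rw [hIdef, Scheme.Hom.support_ker, j.isClosedEmbedding.isClosed_range.closure_eq]
  haveI : IsReduced I.subscheme := by
    subst hIdef
    haveI : IsReduced j.image := isReduced_of_isOpenImmersion (inv j.toImage)
    exact ‹IsReduced j.image›
  -- elements of the maximal ideal vanish on the curve
  have hmI : ∀ a ∈ m, ρ I a = 0 := fun a ha => by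
    rw [← basicOpen_eq_bot_iff]
    show I.subscheme.basicOpen (I.subschemeι.appTop (gl a)) = ⊥
    rw [← Scheme.preimage_basicOpen_top, basicOpen_gl]
    refine Opens.ext (Set.eq_empty_iff_forall_notMem.2 fun q hq => hq ?_)
    rw [(hrange _).1 (hsupp ▸ I.range_subschemeι.le ⟨q, rfl⟩)]
    exact ha
  have hne : Nonempty (I ^ 1).subscheme := by
    rw [pow_one]
    obtain ⟨c⟩ := ‹Nonempty C›
    obtain ⟨q, -⟩ := I.range_subschemeι.ge (hsupp.ge ⟨c, rfl⟩)
    exact ⟨q⟩
  have hρ1 : RingHom.ker (ρ (A := A) I) = m := by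
    refine (Ideal.IsMaximal.eq_of_le ‹m.IsMaximal› (fun h => ?_) hmI).symm
    haveI : Nonempty I.subscheme := by rw [pow_one] at hne; exact hne
    haveI : Nonempty (⊤ : I.subscheme.Opens) := ⟨⟨Classical.arbitrary _, trivial⟩⟩
    have h1 : ρ (A := A) I 1 = 0 := RingHom.mem_ker.1 (h ▸ Submodule.mem_top)
    rw [map_one] at h1
    exact one_ne_zero h1
  have hkill : m ^ 2 ≤ FFun.killIdeal (A := A) (ClSub.quotMod (I ^ 2)) := by
    rw [pow_two, pow_two, Ideal.mul_le]
    intro a ha b hb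
    refine mem_killIdeal_quotMod ?_
    show (I * I).subschemeι.appTop (gl (a * b)) = 0
    rw [map_mul]
    exact appTop_mul_eq_zero (hmI a ha) (hmI b hb)
  -- powers of the curve lie below powers of the maximal ideal
  have hpow : ∀ k : ℕ, ∃ N : ℕ, I ^ N ≤ (BlowUpLib.centre (m ^ k)).comap g := fun k => by
    refine exists_pow_le I _ fun x hx => ?_
    rw [Scheme.IdealSheafData.support_comap] at hx
    have h1 : g x ∈ ((BlowUpLib.centre (m ^ k)).support : Set ↥(Spec (CommRingCat.of A))) := hx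
    rw [show ((BlowUpLib.centre (m ^ k)).support : Set ↥(Spec (CommRingCat.of A))) = _ from
      Scheme.IdealSheafData.coe_support_ofIdealTop _, Spec_zeroLocus] at h1
    have h2 : m ^ k ≤ (g x).asIdeal := fun a ha => PrimeSpectrum.mem_zeroLocus _ _ |>.1 h1 (by
      show (Scheme.ΓSpecIso (CommRingCat.of A)).inv a ∈ Ideal.map _ (m ^ k)
      exact Ideal.mem_map_of_mem _ ha)
    rw [hsupp, hrange]
    exact (Ideal.IsMaximal.eq_of_le ‹m.IsMaximal› (g x).2.ne_top ((g x).2.le_of_pow_le h2)).symm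
  subst hIdef
  haveI : V.IsSeparated := ⟨by
    rw [show terminal.from V = g ≫ terminal.from _ from Subsingleton.elim _ _]
    infer_instance⟩
  -- no first cohomology
  have hO : Subsingleton (Coh.HH V (Coh.structureModule V) 1) := by
    refine ExcVan.subsingleton_h1 (A := A) m hoff fun k => ?_
    obtain ⟨N, hN⟩ := hpow k
    obtain ⟨e, he⟩ := exists_desc (A := A) (m ^ k) _ hN
    haveI : Epi e := epi_of_epi_fac he
    haveI := hH1 N
    exact (DimOne.hmap_surjective f hd e (QCoh.isQCoh_pushforward _ QCoh.isQCoh_structureModule)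
      (FFun.isCoh_modJ _ QCoh.isCoh_structureModule').1).subsingleton
  -- functions on the thickening
  have hG := FFun.good_of_finite (X := V) (Z := Set.univ) (fun N hN q => S0002.result A V N hN.1 q) m
  obtain ⟨k, hk, hG'⟩ := (hG _ (FFun.inCls_univ QCoh.isCoh_structureModule') 0).2 2
  obtain ⟨N, hN⟩ := hpow k
  have hle1 : j.ker ^ max N 2 ≤ j.ker ^ 2 := FrobIter.pow_le_pow_right (le_max_right N 2)
  have hs2 : Function.Surjective (ρ (A := A) (j.ker ^ 2)) := fun z => by
    obtain ⟨σ, rfl⟩ := hsurj 2 (max N 2) (le_max_right N 2) hle1 z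
    obtain ⟨w, hw⟩ := exists_lift (A := A) m hk hG' hle1
      ((FrobIter.pow_le_pow_right (le_max_left N 2)).trans hN) hkill σ
    obtain ⟨a, rfl⟩ := hbij.2 w
    exact ⟨a, hw⟩
  have hle2 : j.ker ^ 2 ≤ j.ker ^ 1 := FrobIter.pow_le_pow_right (by omega)
  have hs1 : Function.Surjective (ρ (A := A) (j.ker ^ 1)) := fun z => by
    obtain ⟨σ, rfl⟩ := hsurj 1 2 (by omega) hle2 z
    obtain ⟨a, rfl⟩ := hs2 σ
    refine ⟨a, ?_⟩
    show (j.ker ^ 1).subschemeι.appTop (gl a) = _
    conv_lhs => rw [← Scheme.IdealSheafData.inclusion_subschemeι hle2, Scheme.Hom.comp_appTop]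
    rfl
  refine ⟨⟨hs1, by rw [pow_one]; exact hρ1⟩, hs2, ?_⟩
  -- first cohomology of the square
  have hsq : j.ker * j.ker = j.ker ^ 2 := (sq j.ker).symm
  have hH1sq : Subsingleton (Coh.HH V (ClSub.idealMod (j.ker ^ 2)) 1) :=
    subsingleton_H1_idealMod A _ hO fun z => (hs2 z).elim fun a ha => ⟨gl a, ha⟩
  -- sections generate the ideal
  have hA : PicF.IsInvertible (ClSub.idealMod j.ker) := IdealCl.isInvertible_idealMod hI
  obtain ⟨e, -⟩ := EulerFibre.exists_mul_iso j.ker j.ker hI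
  have hH1sq' : Subsingleton (Coh.HH V (ClSub.idealMod (j.ker * j.ker)) 1) := by rw [hsq]; exact hH1sq
  have hH1AA : Subsingleton (Coh.HH V (CohB1.tensorMod (ClSub.idealMod j.ker) (ClSub.idealMod j.ker)) 1) :=
    QCoh.subsingleton_HH_of_iso e.symm 1 hH1sq'
  have hgen : ∀ x : V, ∃ s : Γ(ClSub.idealMod j.ker, ⊤), x ∈ TrivBasic.locus s := by
    intro x
    by_cases hx : x ∈ Set.range j
    · obtain ⟨c, rfl⟩ := hx
      obtain ⟨t, ht⟩ := GenLocusGG.exists_mem_locus (PicClLib.isInvertible_pullback j hA) hgg c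
      obtain ⟨b, hb⟩ := exists_lift_genLocus j hA (Iso.refl _) hH1AA (InvX.ofSect t)
      obtain ⟨U, hU, hfr⟩ := InvX.mem_genLocus (hb c ht)
      exact ⟨InvX.one b, TrivBasic.mem_locus_iff.2 ⟨U, hU, hfr⟩⟩
    · obtain ⟨a, ha, hax⟩ : ∃ a ∈ m, a ∉ (g x).asIdeal := by
        by_contra hc
        push_neg at hc
        exact hx ((hrange x).2 (Ideal.IsMaximal.eq_of_le ‹m.IsMaximal› (g x).2.ne_top hc).symm)
      obtain ⟨s, hs⟩ := OmegaLib.exists_idealSect_eq j.ker ⊤ (gl a) (hmI a ha)
      exact ⟨s, mem_locus_of_notMem j.ker s x (by rw [hs, basicOpen_gl]; exact hax) fun h => hx (hsupp ▸ h)⟩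
  -- the square of the maximal ideal
  refine le_antisymm (fun a ha => ?_) fun a ha => ?_
  · have h0 : (j.ker * j.ker).subschemeι.appTop (gl a) = 0 := by
      rw [hsq]; exact RingHom.mem_ker.1 ha
    have h1 := ker_sq_le f hd hO j.ker hI hgen h0
    let ε : A ≃+* Γ(V, ⊤) := RingEquiv.ofBijective gl hbij
    have hK : RingHom.ker j.ker.subschemeι.appTop.hom = m.map (ε : A →+* Γ(V, ⊤)) := by
      rw [← hρ1]
      exact ((RingHom.ker j.ker.subschemeι.appTop.hom).map_comap_of_surjective (ε : A →+* Γ(V, ⊤)) ε.surjective).symm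
    rw [hK, ← Ideal.map_mul, ← sq] at h1
    obtain ⟨b, hb, hba⟩ := (Ideal.mem_map_iff_of_surjective (ε : A →+* Γ(V, ⊤)) ε.surjective).1 h1
    rwa [← hbij.1 (hba : gl b = gl a)]
  · rw [pow_two] at ha
    refine Submodule.smul_induction_on ha (fun b hb c hc => ?_) fun b c hb hc => add_mem hb hc
    rw [RingHom.mem_ker, smul_eq_mul]
    show (j.ker ^ 2).subschemeι.appTop (gl (b * c)) = 0
    rw [← hsq, map_mul]
    exact appTop_mul_eq_zero (hmI b hb) (hmI c hc)

end Groth.Agent.H26.Castel
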