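import Groth.Agent.H26.Adjunction.PicTriv
import Groth.Agent.H26.Adjunction.Exceptional
import Groth.Agent.S7888
import Groth.Agent.MinModel.VertFactor

/-!
# Contractions of configurations of negative adjunction degree, and of a line
-/

noncomputable section

set_option autoImplicit false
set_option linter.style.haveILetI false
set_option linter.unusedSectionVars false
set_option backward.isDefEq.respectTransparency false
set_option backward.isDefEq.respectTransparency.types false
set_option maxHeartbeats 1000000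

universe u

open CategoryTheory CategoryTheory.Limits AlgebraicGeometry TopologicalSpace
open Groth.Agent.H23

namespace Groth.Agent.H26.Castel

open Groth.Agent

variable {R : Type u} [CommRing R] [IsDomain R] [IsDiscreteValuationRing R] {X : Over (Spec (CommRingCat.of R))}

/-- An arithmetic surface has a canonical sheaf. -/
theorem exists_canonical (hX : ArSurf.IsArithSurface R X) : ∃ ω : X.left.Modules, Canon.IsCanonical X.hom ω := by
  obtain ⟨hreg, hint, hdim, hflat, N, iX, hiX, hcomm⟩ := hX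
  haveI := hint
  haveI := hiX
  haveI := MultiP1.isProper_toBase (X := Spec (CommRingCat.of R)) N
  haveI : IsProper X.hom := hcomm ▸ inferInstance
  haveI : IsLocallyNoetherian (CohB1.ProjSpaceOver N (Spec (CommRingCat.of R))) :=
    LocallyOfFiniteType.isLocallyNoetherian (CohB1.ProjSpaceOver.toBase N _)
  obtain ⟨ω, -, hω⟩ := Adjunction.exists_isCanonical X.hom iX
    (CohB1.ProjSpaceOver.toBase N (Spec (CommRingCat.of R))) N
    (Adjunction.regClosed_of_lci iX _ (Adjunction.regular_projSpaceOver R N) (by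
      rw [hcomm]; exact Adjunction.isLCI'_of_regular X.hom hreg (Adjunction.regular_spec R))) hcomm
  exact ⟨ω, hω⟩

/-- Configurations of negative adjunction degree contract. -/
theorem exists_contraction_of_negBelow (hX : ArSurf.IsArithSurface R X)
    {r : ℕ} (Γ : Fin r → ArSurf.VertComp R X)
    (hΓ : Function.Injective fun i => Set.range ((Γ i).ι.base : (Γ i).curve.left → X.left))
    (L : Fin r → X.left.Modules) (hL : ∀ j, ClSub.IsInverseOf (L j) (ClSub.idealMod (Γ j).ι.ker))
    (hneg : ∀ c : Fin r → ℤ, c ≠ 0 →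
      (Finset.univ : Finset (Fin r × Fin r)).sum (fun p => c p.1 * c p.2 * ArSurf.inter R X (L p.2) (Γ p.1)) < 0)
    {ω : X.left.Modules} (hω : Canon.IsCanonical X.hom ω) (hK : ∀ a, Adjunction.NegBelow Γ L ω a) :
    ∃ (Y : Over (Spec (CommRingCat.of R))) (f : X ⟶ Y),
      IsIntegral Y.left ∧ (∀ q : Y.left, IsIntegrallyClosed (Y.left.presheaf.stalk q)) ∧
      topologicalKrullDim Y.left = 2 ∧ Flat Y.hom ∧ Neron.IsProjectiveOver R Y ∧
      (∀ i, ∃ y : Y.left, Set.range (((Γ i).ι ≫ f.left).base : (Γ i).curve.left → Y.left) = {y}) ∧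
      f.left.base ⁻¹' (f.left.base '' ⋃ i, Set.range (Γ i).ι.base) = ⋃ i, Set.range (Γ i).ι.base ∧
      ∀ V : Y.left.Opens, (V : Set Y.left) ∩ f.left.base '' (⋃ i, Set.range (Γ i).ι.base) = ∅ →
        IsIso (f.left ∣_ V) := by
  classical
  refine Groth.Agent.S7888.result R X hX Γ hΓ L hL hneg ?_
  intro Z z _ hZ hne hsub N hN hdeg
  haveI := Adjunction.isProper_hom hX
  obtain ⟨hreg, hint, hdim, hflat, -⟩ := id hX
  haveI := hint
  haveI := hflat
  obtain ⟨n, Γc, hΓc⟩ := CompList.exists_componentList (X := X) hdim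
  obtain ⟨z₀⟩ := hne
  obtain ⟨j₀, -⟩ := Set.mem_iUnion.1 (hsub ⟨z₀, rfl⟩)
  haveI : Nonempty (Fin r) := ⟨j₀⟩
  have hsp : ∀ (i : Fin r) (a), (Γ i).ι a ∈ Models.specialFibreSet R X := fun i a => by
    show X.hom ((Γ i).ι a) = IsLocalRing.closedPoint R
    rw [← Scheme.Hom.comp_apply, (Γ i).w, Scheme.Hom.comp_apply]
    generalize (Γ i).curve.hom a = w
    refine PrimeSpectrum.ext ?_
    show Ideal.comap (IsLocalRing.residue R) w.asIdeal = IsLocalRing.maximalIdeal R
    rw [(Ideal.eq_bot_or_top w.asIdeal).resolve_right w.isPrime.ne_top, ← RingHom.ker_eq_comap_bot,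
      IsLocalRing.ker_residue]
  have hsupp : (z.ker.support : Set X.left) = Set.range z := by
    rw [Scheme.Hom.support_ker]
    exact z.isClosedEmbedding.isClosed_range.closure_eq
  have hfac := MinModel.eq_prod_of_isEffCartier X Γc hΓc hreg hZ (by
    rw [hsupp]
    rintro _ ⟨w, rfl⟩
    obtain ⟨i, a, ha⟩ := Set.mem_iUnion.1 (hsub ⟨w, rfl⟩)
    rw [← ha]
    exact hsp i a)
  generalize hedef : (fun i => (Module.length (X.left.presheaf.stalk (Models.genPtOf R X (Γc i)))
    (X.left.presheaf.stalk (Models.genPtOf R X (Γc i)) ⧸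
      H23.StalkIdeal.sI z.ker (Models.genPtOf R X (Γc i)))).toNat) = e
  have hfac' : z.ker = ∏ i, (Γc i).ι.ker ^ e i := by rw [← hedef]; exact hfac
  have hex : ∀ i, ∃ j : Fin r, e i ≠ 0 → (Γc i).ι.ker = (Γ j).ι.ker := fun i => by
    by_cases he : Models.genPtOf R X (Γc i) ∈ Set.range z
    · obtain ⟨j, a, ha⟩ := Set.mem_iUnion.1 (hsub he)
      refine ⟨j, fun _ => (InterForm.ker_eq_of_range ?_)⟩
      have hsp' : Models.genPtOf R X (Γ j) ⤳ Models.genPtOf R X (Γc i) := by
        rw [← ha]
        exact (genericPoint_specializes a).map (Γ j).ι.continuous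
      have heq := FibreIdeal.genPt_maximal X Γc hΓc i hsp' (hsp j _)
      rw [InterSymm.range_eq_closure (Γc i), InterSymm.range_eq_closure (Γ j)]
      exact congrArg (fun p : X.left => closure ({p} : Set X.left)) heq.symm
    · refine ⟨j₀, fun h => absurd ?_ h⟩
      rw [← hedef]
      haveI : Subsingleton (X.left.presheaf.stalk (Models.genPtOf R X (Γc i)) ⧸
          H23.StalkIdeal.sI z.ker (Models.genPtOf R X (Γc i))) :=
        Ideal.Quotient.subsingleton_iff.2 (PointBlow.sI_eq_top (by
          intro h'; exact he (hsupp.le h')))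
      show ENat.toNat _ = 0
      rw [Module.length_eq_zero]
      rfl
  choose σ hσ using hex
  let a : Fin r → ℕ := fun j => ∑ i ∈ Finset.univ.filter (fun i => σ i = j), e i
  have hker : z.ker = ∏ j, (Γ j).ι.ker ^ a j := by
    rw [hfac', ← Finset.prod_fiberwise Finset.univ σ]
    refine Finset.prod_congr rfl fun j _ => ?_
    rw [← Finset.prod_pow_eq_pow_sum]
    refine Finset.prod_congr rfl fun i hi => ?_
    obtain rfl : σ i = j := (Finset.mem_filter.1 hi).2
    by_cases he : e i = 0
    · rw [he, pow_zero, pow_zero]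
    · rw [hσ i he]
  let t := z.toImage
  let N' := (Scheme.Modules.pullback (inv t)).obj N
  have hN' : PicF.IsInvertible N' := PicClLib.isInvertible_pullback _ hN
  have hd' : Adjunction.DegZero Γ z.ker.subschemeι N' := fun i g hg => by
    have h := hdeg i (g ≫ inv t) (by
      rw [Category.assoc, ← hg]
      congr 1
      rw [IsIso.inv_comp_eq]
      exact z.toImage_imageι.symm)
    haveI := ArInter.isProper_curve (Γ i)
    rw [← h, ArInter.curveDeg_eq (Γ i) (PicClLib.isInvertible_pullback g hN'),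
      ArInter.curveDeg_eq (Γ i) (PicClLib.isInvertible_pullback _ hN)]
    exact CurveRR.deg_congr (IsLocalRing.ResidueField R) ((Scheme.Modules.pullbackComp g (inv t)).app N) 1
  obtain ⟨θ⟩ := Adjunction.pic_trivial hX hL hω _ a rfl (hK a) z.ker hker N' hN' hd'
  exact ⟨((Scheme.Modules.pullbackId Z).app N).symm ≪≫
    (Scheme.Modules.pullbackCongr (IsIso.hom_inv_id t).symm).app N ≪≫
    ((Scheme.Modules.pullbackComp t (inv t)).app N).symm ≪≫
    (Scheme.Modules.pullback t).mapIso θ ≪≫ LefFEt.uIso t⟩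

/-- A curve with the numerics of a line of self-intersection `-d`. -/
structure IsNegLine (hX : ArSurf.IsArithSurface R X) (E : ArSurf.VertComp R X) (L : X.left.Modules) (d : ℕ) :
    Prop where
  inv : ClSub.IsInverseOf L (ClSub.idealMod E.ι.ker)
  one_le : 1 ≤ d
  h1 : Models.h1 R X E = 0
  self : ArSurf.inter R X L E = -((d : ℤ) * (Models.wdeg R X E : ℤ))

theorem isNegLine_of_iso (hX : ArSurf.IsArithSurface R X) (E : ArSurf.VertComp R X)
    (k' : Type u) [Field k'] [Algebra (IsLocalRing.ResidueField R) k'] [FiniteDimensional (IsLocalRing.ResidueField R) k']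
    (e : E.curve.left ≅ CohB1.ProjSpace 1 k')
    (he : e.hom ≫ (CohB1.ProjSpace 1 k' ↘ Spec (CommRingCat.of k')) ≫
      Spec.map (CommRingCat.ofHom (algebraMap (IsLocalRing.ResidueField R) k')) = E.curve.hom)
    (L : X.left.Modules) (hL : ClSub.IsInverseOf L (ClSub.idealMod E.ι.ker))
    (d : ℕ) (hd : 1 ≤ d)
    (hself : ArSurf.inter R X L E = -((d : ℤ) * (Module.finrank (IsLocalRing.ResidueField R) k' : ℤ))) :
    IsNegLine hX E L d := by
  obtain ⟨h1, hw⟩ := Adjunction.invariants_of_isLine hX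
    (E := E) (d := (Module.finrank (IsLocalRing.ResidueField R) k' : ℤ)) ⟨k', _, _, inferInstance, e, he, rfl⟩
  exact ⟨hL, hd, h1, by rw [hself, hw]⟩

variable {hX : ArSurf.IsArithSurface R X} {E : ArSurf.VertComp R X} {L : X.left.Modules} {d : ℕ}

theorem IsNegLine.inter_canonical (h : IsNegLine hX E L d) {ω : X.left.Modules} (hω : Canon.IsCanonical X.hom ω) :
    ArSurf.inter R X ω E = ((d : ℤ) - 2) * (Models.wdeg R X E : ℤ) := by
  have hadj := Adjunction.inter_add_inter hX E L h.inv ω hω
  haveI := Adjunction.isProper_hom hX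
  rw [EulerFibre.wdeg_sub_h1, h.h1, Nat.cast_zero, sub_zero, h.self] at hadj
  linarith

theorem IsNegLine.negBelow (h : IsNegLine hX E L d) {ω : X.left.Modules} (hω : Canon.IsCanonical X.hom ω)
    (a : Fin 1 → ℕ) : Adjunction.NegBelow ![E] ![L] ω a := by
  intro a' _ ha'
  haveI := Adjunction.isProper_hom hX
  have h0 : 1 ≤ a' 0 := Nat.one_le_iff_ne_zero.2 fun h0 => ha' (funext fun j => by rw [Fin.eq_zero j, h0]; rfl)
  have hw : (0 : ℤ) < Models.wdeg R X E := by exact_mod_cast WDeg.wdeg_pos E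
  have hd : (1 : ℤ) ≤ d := by exact_mod_cast h.one_le
  have ha : (1 : ℤ) ≤ a' 0 := by exact_mod_cast h0
  simp only [Adjunction.adjForm, Fin.sum_univ_one, Matrix.cons_val_fin_one, h.self, h.inter_canonical hω]
  have : (a' 0 : ℤ) * ((a' 0 : ℤ) * -((d : ℤ) * Models.wdeg R X E) + ((d : ℤ) - 2) * Models.wdeg R X E) =
      (a' 0 : ℤ) * (Models.wdeg R X E : ℤ) * (-((a' 0 : ℤ) - 1) * d - 2) := by ring
  rw [this]
  refine mul_neg_of_pos_of_neg (by positivity) ?_
  nlinarith

/-- The contraction of a line. -/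
theorem IsNegLine.exists_contraction (h : IsNegLine hX E L d) :
    ∃ (Y : Over (Spec (CommRingCat.of R))) (f : X ⟶ Y) (y : Y.left) (hy : IsClosed ({y} : Set Y.left)),
      IsIntegral Y.left ∧ (∀ q : Y.left, IsIntegrallyClosed (Y.left.presheaf.stalk q)) ∧
      topologicalKrullDim Y.left = 2 ∧ Flat Y.hom ∧ Neron.IsProjectiveOver R Y ∧
      Set.range ((E.ι ≫ f.left).base : E.curve.left → Y.left) = {y} ∧
      (f.left ⁻¹ᵁ (⟨{y}ᶜ, hy.isOpen_compl⟩ : Y.left.Opens) : Set X.left) = (Set.range E.ι.base)ᶜ ∧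
      IsIso (f.left ∣_ (⟨{y}ᶜ, hy.isOpen_compl⟩ : Y.left.Opens)) := by
  obtain ⟨ω, hω⟩ := exists_canonical hX
  haveI := Adjunction.isProper_hom hX
  have hw : (0 : ℤ) < Models.wdeg R X E := by exact_mod_cast WDeg.wdeg_pos E
  have hd : (1 : ℤ) ≤ d := by exact_mod_cast h.one_le
  obtain ⟨Y, f, hY1, hY2, hY3, hY4, hY5, hpt, hpre, hiso⟩ := exists_contraction_of_negBelow hX ![E]
    (fun i j _ => Subsingleton.elim i j) ![L]
    (fun j => by rw [Fin.eq_zero j]; exact h.inv) (fun c hc => by
      have hc0 : c 0 ≠ 0 := fun h0 => hc (funext fun j => by rw [Fin.eq_zero j, h0]; rfl)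
      rw [Fintype.sum_prod_type]
      simp only [Fin.sum_univ_one, Matrix.cons_val_fin_one, h.self]
      have : 0 < c 0 * c 0 := mul_self_pos.2 hc0
      nlinarith [mul_pos this (mul_pos (show (0 : ℤ) < d by linarith) hw)]) hω (h.negBelow hω)
  obtain ⟨y, hy⟩ := hpt 0
  have hU : (⋃ i : Fin 1, Set.range ((![E] i).ι.base : (![E] i).curve.left → X.left)) = Set.range E.ι.base :=
    (iSup_unique (f := fun i : Fin 1 => Set.range ((![E] i).ι.base : (![E] i).curve.left → X.left)) :)
  have hy' : Set.range ((E.ι ≫ f.left).base : E.curve.left → Y.left) = {y} := hy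
  rw [hU] at hpre hiso
  have himg : f.left.base '' Set.range E.ι.base = {y} := by
    rw [← Set.range_comp]
    exact hy'
  haveI : IsProper f.left := by
    obtain ⟨n, i, hi, hc⟩ := hY5
    haveI := hi
    haveI := MultiP1.isProper_toBase (X := Spec (CommRingCat.of R)) n
    haveI : IsProper Y.hom := hc ▸ inferInstance
    haveI : IsProper (f.left ≫ Y.hom) := by rw [Over.w f]; infer_instance
    exact IsProper.of_comp f.left Y.hom
  have hyc : IsClosed ({y} : Set Y.left) := by
    rw [← himg]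
    exact f.left.isClosedMap _ E.ι.isClosedEmbedding.isClosed_range
  refine ⟨Y, f, y, hyc, hY1, hY2, hY3, hY4, hY5, hy', ?_, hiso _ ?_⟩
  · rw [himg] at hpre
    show f.left.base ⁻¹' ({y}ᶜ) = _
    rw [Set.preimage_compl, hpre]
  · rw [himg]
    exact Set.compl_inter_self _

end Groth.Agent.H26.Castel
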