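import Groth.Agent.H26.Castel.Thick
import Groth.Agent.H26.Castel.LineGG
import Groth.Agent.H26.Castel.Local
import Groth.Agent.H26.Castel.Cotangent
import Groth.Agent.H26.Contract
import Groth.Agent.ExcVan.Main
import Groth.Agent.MeroX.EffCartier
import Groth.Agent.H26.InterDiv

/-!
# The singularity obtained by contracting a line
-/

noncomputable section

set_option autoImplicit false
set_option linter.style.haveILetI false
set_option linter.unusedSectionVars false
set_option backward.isDefEq.respectTransparency false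
set_option backward.isDefEq.respectTransparency.types false
set_option maxHeartbeats 1000000

universe u

open CategoryTheory CategoryTheory.Limits AlgebraicGeometry TopologicalSpace Opposite
open Groth.Agent.H23

namespace Groth.Agent.H26.Castel

open Groth.Agent

/-- A closed subscheme inside an open, seen in the open. -/
theorem exists_iso_subscheme {X : Scheme.{u}} (V : X.Opens) (W : X.IdealSheafData) (hW : (W.support : Set X) ⊆ V)
    {K : V.toScheme.IdealSheafData} (hK : K = W.comap V.ι) :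
    ∃ t : K.subscheme ⟶ W.subscheme, IsIso t ∧ t ≫ W.subschemeι = K.subschemeι ≫ V.ι := by
  subst hK
  haveI : IsSplitEpi (pullback.snd V.ι W.subschemeι) := by
    have hr : Set.range W.subschemeι ⊆ Set.range V.ι := by
      rw [Scheme.Opens.range_ι, W.range_subschemeι]; exact hW
    exact IsSplitEpi.mk' ⟨pullback.lift (IsOpenImmersion.lift V.ι W.subschemeι hr) (𝟙 _)
      (by rw [IsOpenImmersion.lift_fac, Category.id_comp]), pullback.lift_snd _ _ _⟩
  haveI : IsIso (pullback.snd V.ι W.subschemeι) := isIso_of_mono_of_isSplitEpi _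
  refine ⟨(W.comapIso V.ι).hom ≫ pullback.snd V.ι W.subschemeι, inferInstance, ?_⟩
  rw [Category.assoc, ← pullback.condition, ← Category.assoc, Scheme.IdealSheafData.comapIso_hom_fst]

variable {R : Type u} [CommRing R] [IsDomain R] [IsDiscreteValuationRing R] {X : Over (Spec (CommRingCat.of R))}
  {hX : ArSurf.IsArithSurface R X} {E : ArSurf.VertComp R X} {L : X.left.Modules} {d : ℕ}

set_option maxHeartbeats 4000000 in
/-- The contraction of a line of self-intersection `-d` has embedding dimension `d + 1`. -/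
theorem IsNegLine.finrank_cotangent (h : IsNegLine hX E L d) {Y : Over (Spec (CommRingCat.of R))} (f : X ⟶ Y)
    (y : Y.left) (hy : IsClosed ({y} : Set Y.left)) [IsIntegral Y.left]
    (hnor : ∀ q : Y.left, IsIntegrallyClosed (Y.left.presheaf.stalk q)) (hYd : topologicalKrullDim Y.left = 2)
    (hYp : Neron.IsProjectiveOver R Y)
    (hrange : Set.range ((E.ι ≫ f.left).base : E.curve.left → Y.left) = {y})
    (hpre : (f.left ⁻¹ᵁ (⟨{y}ᶜ, hy.isOpen_compl⟩ : Y.left.Opens) : Set X.left) = (Set.range E.ι.base)ᶜ)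
    (hiso : IsIso (f.left ∣_ (⟨{y}ᶜ, hy.isOpen_compl⟩ : Y.left.Opens))) :
    Module.finrank (IsLocalRing.ResidueField (Y.left.presheaf.stalk y))
        (IsLocalRing.CotangentSpace (Y.left.presheaf.stalk y)) = d + 1 := by
  haveI := Adjunction.isProper_hom hX
  obtain ⟨hreg, hint, hdim, hflat, -⟩ := id hX
  haveI := hint
  haveI := E.isIntegral
  haveI := E.isClosedImmersion
  haveI : IsProper Y.hom := by
    obtain ⟨n, i, hi, hc⟩ := hYp
    haveI := hi
    haveI := MultiP1.isProper_toBase (X := Spec (CommRingCat.of R)) n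
    exact hc ▸ inferInstance
  haveI : IsProper f.left := by
    haveI : IsProper (f.left ≫ Y.hom) := by rw [Over.w f]; infer_instance
    exact IsProper.of_comp f.left Y.hom
  haveI : IsLocallyNoetherian Y.left := LocallyOfFiniteType.isLocallyNoetherian Y.hom
  haveI : CompactSpace Y.left := QuasiCompact.compactSpace_of_compactSpace Y.hom
  haveI : IsNoetherian Y.left := { __ := ‹IsLocallyNoetherian Y.left›, __ := ‹CompactSpace Y.left› }
  haveI : IsLocallyNoetherian X.left := LocallyOfFiniteType.isLocallyNoetherian X.hom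
  haveI : CompactSpace X.left := QuasiCompact.compactSpace_of_compactSpace X.hom
  haveI : IsNoetherian X.left := { __ := ‹IsLocallyNoetherian X.left›, __ := ‹CompactSpace X.left› }
  have hnorm : Pi1.IsNormalScheme Y.left := fun q => ⟨inferInstance, hnor q⟩
  have hEy : ∀ x : X.left, x ∈ Set.range E.ι.base ↔ f.left x = y := fun x => by
    have h0 : x ∈ (f.left ⁻¹ᵁ (⟨{y}ᶜ, hy.isOpen_compl⟩ : Y.left.Opens) : Set X.left) ↔ f.left x ≠ y := Iff.rfl
    rw [hpre, Set.mem_compl_iff, not_iff_not] at h0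
    exact h0
  -- an affine neighbourhood
  obtain ⟨U, hU, hyU, -⟩ := exists_isAffineOpen_mem_and_subset (x := y) (U := ⊤) trivial
  have hne : ¬ (U : Set Y.left) ⊆ {y} := fun hsub => by
    have hg : genericPoint Y.left = y := hsub (((genericPoint_spec Y.left).mem_open_set_iff U.2).2 ⟨y, trivial, hyU⟩)
    have hall : ∀ q : Y.left, q = y := fun q => (hg ▸ genericPoint_specializes q : y ⤳ q).mem_closed hy rfl
    haveI : Subsingleton Y.left := ⟨fun p q => (hall p).trans (hall q).symm⟩
    have h0 : topologicalKrullDim Y.left ≤ 0 := topologicalKrullDim_zero_of_discreteTopology _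
    rw [hYd] at h0
    exact absurd h0 (by decide)
  obtain ⟨V, hVdef⟩ : ∃ V, V = f.left ⁻¹ᵁ U := ⟨_, rfl⟩
  subst hVdef
  let V : X.left.Opens := f.left ⁻¹ᵁ U
  let A := Γ(Y.left, U)
  haveI : IsAffine U.toScheme := hU
  haveI : IsNoetherianRing A := IsLocallyNoetherian.component_noetherian ⟨U, hU⟩
  haveI : CompactSpace V.toScheme := QuasiCompact.compactSpace_of_compactSpace (f.left ∣_ U)
  haveI : IsLocallyNoetherian V.toScheme := isLocallyNoetherian_of_isOpenImmersion V.ι
  haveI : IsNoetherian V.toScheme := { __ := ‹IsLocallyNoetherian V.toScheme›, __ := ‹CompactSpace V.toScheme› }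
  letI : V.toScheme.Over (Spec (CommRingCat.of A)) := ⟨(f.left ∣_ U) ≫ hU.isoSpec.hom⟩
  haveI : IsProper (V.toScheme ↘ Spec (CommRingCat.of A)) :=
    inferInstanceAs (IsProper ((f.left ∣_ U) ≫ hU.isoSpec.hom))
  obtain ⟨g, hgdef⟩ : ∃ g, g = V.toScheme ↘ Spec (CommRingCat.of A) := ⟨_, rfl⟩
  have hfac : g ≫ hU.fromSpec = V.ι ≫ f.left := by
    rw [hgdef]
    show ((f.left ∣_ U) ≫ hU.isoSpec.hom) ≫ hU.fromSpec = _
    rw [Category.assoc, IsAffineOpen.isoSpec_hom_fromSpec, morphismRestrict_ι]
  have hgx : ∀ x : V.toScheme, hU.fromSpec (g x) = f.left (V.ι x) := fun x => by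
    show (g ≫ hU.fromSpec) x = (V.ι ≫ f.left) x
    rw [hfac]
  let m : Ideal A := (hU.primeIdealOf ⟨y, hyU⟩).asIdeal
  have hfy : hU.fromSpec (hU.primeIdealOf ⟨y, hyU⟩) = y := hU.fromSpec_primeIdealOf ⟨y, hyU⟩
  haveI : m.IsMaximal := by
    rw [← PrimeSpectrum.isClosed_singleton_iff_isMaximal]
    have : ({hU.primeIdealOf ⟨y, hyU⟩} : Set (Spec Γ(Y.left, U))) = hU.fromSpec ⁻¹' {y} := by
      ext q
      exact ⟨fun hq => by rw [Set.mem_singleton_iff.1 hq]; exact hfy,
        fun hq => hU.fromSpec.isOpenEmbedding.injective (hq.trans hfy.symm)⟩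
    show IsClosed ({hU.primeIdealOf ⟨y, hyU⟩} : Set (Spec Γ(Y.left, U)))
    rw [this]
    exact hy.preimage hU.fromSpec.continuous
  -- the curve in the neighbourhood
  let jE : E.curve.left ⟶ V.toScheme := IsOpenImmersion.lift V.ι E.ι (by
    rw [Scheme.Opens.range_ι]
    rintro _ ⟨c, rfl⟩
    show f.left (E.ι c) ∈ U
    rw [(hEy _).1 ⟨c, rfl⟩]
    exact hyU)
  have hjE : jE ≫ V.ι = E.ι := IsOpenImmersion.lift_fac _ _ _
  haveI : IsClosedImmersion (jE ≫ V.ι) := by rw [hjE]; infer_instance
  haveI : IsClosedImmersion jE := IsClosedImmersion.of_comp jE V.ι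
  have hker : jE.ker = E.ι.ker.comap V.ι := by
    rw [← Adjunction.ker_comp_comap_mono jE V.ι]
    congr 1
    exact congrArg Scheme.Hom.ker hjE
  have hkern : ∀ n : ℕ, jE.ker ^ n = (E.ι.ker ^ n).comap V.ι := fun n => by rw [PointBlow.comap_pow, hker]
  have hsuppn : ∀ n : ℕ, ((E.ι.ker ^ n).support : Set X.left) ⊆ V := fun n x hx => by
    rcases Nat.eq_zero_or_pos n with rfl | hn
    · rw [pow_zero, Scheme.IdealSheafData.one_eq_top, Scheme.IdealSheafData.support_top] at hx
      exact hx.elim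
    · rw [Scheme.IdealSheafData.support_pow (I := E.ι.ker) n hn.ne', Scheme.Hom.support_ker,
        E.ι.isClosedEmbedding.isClosed_range.closure_eq] at hx
      show f.left x ∈ U
      rw [(hEy x).1 hx]
      exact hyU
  have heff : BlowUp.IsEffCartierIdeal jE.ker := by
    rw [hker]
    exact MeroX.isEffCartier_comap V.ι _ (Adjunction.heff_vert hX E)
  choose t ht ht' using fun n : ℕ => exists_iso_subscheme V (E.ι.ker ^ n) (hsuppn n) (hkern n)
  -- hypotheses of the local structure theorem
  have hrg : ∀ x : V.toScheme, x ∈ Set.range jE ↔ (g x).asIdeal = m := fun x => by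
    constructor
    · rintro ⟨c, rfl⟩
      refine congrArg PrimeSpectrum.asIdeal (hU.fromSpec.isOpenEmbedding.injective ((hgx _).trans ?_))
      rw [hfy]
      show f.left ((jE ≫ V.ι) c) = y
      rw [hjE]
      exact (hEy _).1 ⟨c, rfl⟩
    · intro hx
      have h1 : f.left (V.ι x) = y := by
        rw [← hgx, show g x = hU.primeIdealOf ⟨y, hyU⟩ from PrimeSpectrum.ext hx, hfy]
      obtain ⟨c, hc⟩ := (hEy _).2 h1
      exact ⟨c, V.ι.isOpenEmbedding.injective (by rw [← Scheme.Hom.comp_apply, hjE]; exact hc)⟩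
  have hoff : ∀ a ∈ m, IsAffineOpen (V.toScheme.basicOpen (gl (A := A) a)) := fun a ha => by
    have hD : Y.left.basicOpen a ≤ ⟨{y}ᶜ, hy.isOpen_compl⟩ := fun q hq (hqy : q = y) => by
      rw [hqy, ← hfy] at hq
      exact (QCoh.mem_basicOpen_fromSpec hU _ a).1 hq ha
    haveI := hiso
    haveI : IsIso (f.left ∣_ Y.left.basicOpen a) :=
      PointBlow.isIso_restrict_mono f.left (U := ⟨{y}ᶜ, hy.isOpen_compl⟩) hD
    haveI : IsAffine (Y.left.basicOpen a).toScheme := hU.basicOpen a
    have haff : IsAffineOpen (f.left ⁻¹ᵁ Y.left.basicOpen a) := IsAffine.of_isIso (f.left ∣_ Y.left.basicOpen a)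
    have hsec : V.toScheme.basicOpen (gl (A := A) a) = V.ι ⁻¹ᵁ (f.left ⁻¹ᵁ Y.left.basicOpen a) := by
      rw [basicOpen_gl, ← hgdef, ← Scheme.Hom.comp_preimage, ← hfac, Scheme.Hom.comp_preimage,
        hU.fromSpec_preimage_basicOpen]
    have himg : V.ι ''ᵁ (V.toScheme.basicOpen (gl (A := A) a)) = f.left ⁻¹ᵁ Y.left.basicOpen a := by
      rw [hsec, Scheme.Hom.image_preimage_eq_opensRange_inf, Scheme.Opens.opensRange_ι]
      exact inf_eq_right.2 (f.left.preimage_mono (Y.left.basicOpen_le a))
    exact (V.ι.isAffineOpen_iff_of_isOpenImmersion).1 (himg ▸ haff)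
  have hbij : Function.Bijective (gl (A := A) (V := V.toScheme)) := by
    haveI := hiso
    have hWne : ((⟨{y}ᶜ, hy.isOpen_compl⟩ : Y.left.Opens) : Set Y.left).Nonempty := by
      obtain ⟨q, -, hq⟩ := Set.not_subset.1 hne
      exact ⟨q, hq⟩
    have hc : ∀ {P Q S : CommRingCat.{u}} (u : P ⟶ Q) (v : Q ⟶ S), Function.Bijective u → Function.Bijective v →
        Function.Bijective (u ≫ v) := fun u v hu hv => hv.comp hu
    have h1 : Function.Bijective (f.left ∣_ U).appTop := by
      rw [morphismRestrict_appTop]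
      exact hc _ _ (Contract.bijective_app f.left hWne hnorm (U.ι ''ᵁ ⊤))
        (ConcreteCategory.bijective_of_isIso (X.left.presheaf.map _))
    have h2 : Function.Bijective (hU.isoSpec.hom.appTop) := ConcreteCategory.bijective_of_isIso _
    have h3 : Function.Bijective ((f.left ∣_ U) ≫ hU.isoSpec.hom).appTop := by
      rw [Scheme.Hom.comp_appTop]
      exact hc _ _ h2 h1
    exact hc _ _ (ConcreteCategory.bijective_of_isIso (Scheme.ΓSpecIso (CommRingCat.of A)).inv) h3
  have hH1 : ∀ n, Subsingleton (Coh.HH V.toScheme (ClSub.quotMod (jE.ker ^ n)) 1) := fun n => by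
    rw [hkern]
    exact (ExcVan.hh_quot_iff V _ (hsuppn n) 1).1 (h.subsingleton_H1_thick n)
  have hsurj : ∀ a b : ℕ, a ≤ b → ∀ hle : jE.ker ^ b ≤ jE.ker ^ a,
      Function.Surjective (Scheme.IdealSheafData.inclusion hle).appTop := fun a b hab hle => by
    have hle' : E.ι.ker ^ b ≤ E.ι.ker ^ a := FrobIter.pow_le_pow_right hab
    haveI := ht a
    haveI := ht b
    have hsq : Scheme.IdealSheafData.inclusion hle ≫ t b = t a ≫ Scheme.IdealSheafData.inclusion hle' := by
      rw [← cancel_mono (E.ι.ker ^ b).subschemeι, Category.assoc, ht' b, ← Category.assoc,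
        Scheme.IdealSheafData.inclusion_subschemeι, Category.assoc, Scheme.IdealSheafData.inclusion_subschemeι, ht' a]
    have h1 : Function.Surjective
        ((Scheme.IdealSheafData.inclusion hle').appTop ≫ (t a).appTop) :=
      ((ConcreteCategory.isIso_iff_bijective (t a).appTop).1 inferInstance).2.comp (h.surjective_inclusion hab hle')
    rw [← Scheme.Hom.comp_appTop, ← hsq, Scheme.Hom.comp_appTop] at h1
    exact Function.Surjective.of_comp h1
  have hgg : Curv2.IsGloballyGenerated ((Scheme.Modules.pullback jE).obj (ClSub.idealMod jE.ker)) := by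
    obtain ⟨e⟩ := InterDiv.nonempty_pullback_idealMod V.ι E.ι.ker (Adjunction.heff_vert hX E) (hker ▸ heff)
    rw [hker]
    refine isGloballyGenerated_of_deg_nonneg hX h.h1
      (PicClLib.isInvertible_pullback jE (IdealCl.isInvertible_idealMod (hker ▸ heff))) ?_
    let ee : (Scheme.Modules.pullback jE).obj (ClSub.idealMod (E.ι.ker.comap V.ι)) ≅
        (Scheme.Modules.pullback E.ι).obj (ClSub.idealMod E.ι.ker) :=
      (Scheme.Modules.pullback jE).mapIso e.symm ≪≫ (Scheme.Modules.pullbackComp jE V.ι).app _ ≪≫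
        (Scheme.Modules.pullbackCongr hjE).app _
    haveI := ArInter.isProper_curve E
    rw [ArInter.curveDeg_eq E (PicClLib.isInvertible_pullback jE (IdealCl.isInvertible_idealMod (hker ▸ heff))),
      CurveRR.deg_congr _ ee, ← ArInter.curveDeg_eq E (PicClLib.isInvertible_pullback E.ι
        (IdealCl.isInvertible_idealMod (Adjunction.heff_vert hX E)))]
    have hi := Chain.inter_prod (Γc := ![E]) (L := ![L])
      (fun j => by rw [Fin.eq_zero j]; exact Adjunction.heff_vert hX E)
      (fun j => by rw [Fin.eq_zero j]; exact h.inv) (fun _ => 1) E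
    rw [prod_one, pow_one] at hi
    refine le_of_le_of_eq ?_ hi.symm
    simp only [Fin.sum_univ_one, Matrix.cons_val_fin_one, h.self]
    push_cast
    rw [one_mul, neg_neg]
    positivity
  -- fibres
  haveI : IsProper (f.left ∣_ U) := inferInstance
  have hd := ExcVan.fibre_dim (X := Y.left) (Y := X.left) hYd.le hy f.left hiso hU hne
  obtain ⟨⟨hs1, hk1⟩, hs2, hk2⟩ := local_structure (A := A) (V := V.toScheme) (f.left ∣_ U) hd hbij m jE heff
    (hgdef ▸ hrg) hoff hH1 hsurj hgg
  -- the base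
  obtain ⟨σ, hσ⟩ : ∃ σ : CommRingCat.of R ⟶ Γ(Y.left, U), Spec.map σ = hU.fromSpec ≫ Y.hom :=
    ⟨Spec.preimage (hU.fromSpec ≫ Y.hom), Spec.map_preimage _⟩
  letI : Algebra R A := σ.hom.toAlgebra
  have hbase : g ≫ Spec.map σ = V.ι ≫ X.hom := by
    rw [hσ, ← Category.assoc, hfac, Category.assoc, Over.w f]
  have hglσ : ∀ r : R, gl (A := A) (V := V.toScheme) (σ.hom r) =
      (V.ι ≫ X.hom).appTop ((Scheme.ΓSpecIso (CommRingCat.of R)).inv r) := fun r => by
    rw [← hbase, Scheme.Hom.comp_appTop, CommRingCat.comp_apply, hgdef]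
    show (V.toScheme ↘ Spec (CommRingCat.of A)).appTop ((Scheme.ΓSpecIso (CommRingCat.of A)).inv (σ.hom r)) = _
    exact congrArg _ (ConcreteCategory.congr_hom (Scheme.ΓSpecIso_inv_naturality σ) r)
  have hlen : ∀ (n : ℕ) (P : Ideal A), RingHom.ker (ρ (A := A) (jE.ker ^ n)) = P →
      Function.Surjective (ρ (A := A) (jE.ker ^ n)) →
      Module.length R (A ⧸ P) =
        (letI := (Chain.rho X (E.ι.ker ^ n)).toAlgebra; Module.length R Γ((E.ι.ker ^ n).subscheme, ⊤)) := by
    intro n P hP hs
    subst hP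
    haveI := ht n
    letI := (Chain.rho X (E.ι.ker ^ n)).toAlgebra
    let a : A →+* Γ((E.ι.ker ^ n).subscheme, ⊤) := (CategoryTheory.inv (t n).appTop).hom.comp (ρ (A := A) (jE.ker ^ n))
    have hat : ∀ x, (t n).appTop (a x) = ρ (A := A) (jE.ker ^ n) x := fun x =>
      ConcreteCategory.congr_hom (IsIso.inv_hom_id (t n).appTop) _
    have hinj : Function.Injective (t n).appTop :=
      ((ConcreteCategory.isIso_iff_bijective (t n).appTop).1 inferInstance).1
    let φ : A →ₐ[R] Γ((E.ι.ker ^ n).subscheme, ⊤) :=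
      { a with
        commutes' := fun r => hinj (by
          refine (hat _).trans ?_
          show (jE.ker ^ n).subschemeι.appTop (gl (σ.hom r)) =
            (t n).appTop (((E.ι.ker ^ n).subschemeι ≫ X.hom).appTop ((Scheme.ΓSpecIso (CommRingCat.of R)).inv r))
          rw [hglσ, ← CommRingCat.comp_apply, ← CommRingCat.comp_apply ((_ : Scheme.Hom _ _).appTop) (t n).appTop,
            ← Scheme.Hom.comp_appTop, ← Scheme.Hom.comp_appTop, ← Category.assoc, ← Category.assoc, ht' n]) }
    have hφs : Function.Surjective φ :=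
      ((ConcreteCategory.isIso_iff_bijective (CategoryTheory.inv (t n).appTop)).1 inferInstance).2.comp hs
    have hφk : RingHom.ker φ = RingHom.ker (ρ (A := A) (jE.ker ^ n)) := by
      ext x
      rw [RingHom.mem_ker, RingHom.mem_ker, ← hat x]
      exact ⟨fun hx => by rw [show a x = 0 from hx, map_zero], fun hx => hinj (hx.trans (map_zero _).symm)⟩
    rw [← hφk]
    exact (Ideal.quotientKerAlgEquivOfSurjective hφs).toLinearEquiv.length_eq
  have L1 : Module.length R (A ⧸ m ^ 1) = ((Models.wdeg R X E : ℕ) : ℕ∞) := by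
    rw [hlen 1 (m ^ 1) (by rw [hk1, pow_one]) hs1, h.length_thick 1 (Or.inl rfl), if_pos rfl]
  have L2 : Module.length R (A ⧸ m ^ 2) = (((d + 1 + 1) * Models.wdeg R X E : ℕ) : ℕ∞) := by
    rw [hlen 2 (m ^ 2) hk2 hs2, h.length_thick 2 (Or.inr rfl), if_neg (by decide)]
  -- the stalk
  letI : Algebra A (Y.left.presheaf.stalk y) := TopCat.Presheaf.algebra_section_stalk Y.left.presheaf (⟨y, hyU⟩ : U)
  haveI hloc : IsLocalization.AtPrime (Y.left.presheaf.stalk y) m := hU.isLocalization_stalk ⟨y, hyU⟩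
  letI : Algebra R (Y.left.presheaf.stalk y) :=
    ((algebraMap A (Y.left.presheaf.stalk y)).comp (algebraMap R A)).toAlgebra
  haveI : IsScalarTower R A (Y.left.presheaf.stalk y) := IsScalarTower.of_algebraMap_eq' rfl
  have hS : ∀ n : ℕ, Module.length R (Y.left.presheaf.stalk y ⧸ IsLocalRing.maximalIdeal (Y.left.presheaf.stalk y) ^ n) =
      Module.length R (A ⧸ m ^ n) := fun n =>
    (((IsLocalization.AtPrime.equivQuotMaximalIdealPow m (Y.left.presheaf.stalk y) n).restrictScalars R).toLinearEquiv).length_eq.symm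
  have S1 := (hS 1).trans L1
  rw [pow_one] at S1
  exact finrank_cotangent_of_length (R := R) (WDeg.wdeg_pos E) S1 ((hS 2).trans L2)

/-- The contraction of a line, with the embedding dimension of the image point. -/
theorem IsNegLine.exists_contraction' (h : IsNegLine hX E L d) :
    ∃ (Y : Over (Spec (CommRingCat.of R))) (f : X ⟶ Y) (y : Y.left) (hy : IsClosed ({y} : Set Y.left)),
      IsIntegral Y.left ∧ (∀ q : Y.left, IsIntegrallyClosed (Y.left.presheaf.stalk q)) ∧
      topologicalKrullDim Y.left = 2 ∧ Flat Y.hom ∧ Neron.IsProjectiveOver R Y ∧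
      Set.range ((E.ι ≫ f.left).base : E.curve.left → Y.left) = {y} ∧
      (f.left ⁻¹ᵁ (⟨{y}ᶜ, hy.isOpen_compl⟩ : Y.left.Opens) : Set X.left) = (Set.range E.ι.base)ᶜ ∧
      IsIso (f.left ∣_ (⟨{y}ᶜ, hy.isOpen_compl⟩ : Y.left.Opens)) ∧
      Module.finrank (IsLocalRing.ResidueField (Y.left.presheaf.stalk y))
        (IsLocalRing.CotangentSpace (Y.left.presheaf.stalk y)) = d + 1 := by
  obtain ⟨Y, f, y, hy, h1, h2, h3, h4, h5, h6, h7, h8⟩ := h.exists_contraction
  haveI := h1
  exact ⟨Y, f, y, hy, h1, h2, h3, h4, h5, h6, h7, h8, h.finrank_cotangent f y hy h2 h3 h5 h6 h7 h8⟩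

end Groth.Agent.H26.Castel
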